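import Groth.Agent.Lib.Unibr4.Scheme

/-!
# Going down over a unibranch point; universally open morphisms
-/

universe u

open TensorProduct CategoryTheory Limits AlgebraicGeometry Topology

namespace Groth.Agent.Unibr4

theorem exists_le_of_integral {R : Type u} [CommRing R] {p : Ideal R} {B : Type u} [CommRing B] [IsDomain B]
    [Algebra R B] {S : Type u} [CommRing S] [Algebra R S] [Algebra.IsIntegral R S] (hB : UB p B) (Q m : Ideal S)
    [Q.IsPrime] [m.IsPrime] (hmQ : m ≤ Q) (hQ : Q.under R = p) (hm : m.under R ≤ RingHom.ker (algebraMap R B))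
    (r : Ideal R) [r.IsPrime] (hrp : r ≤ p) (hker : RingHom.ker (algebraMap R B) ≤ r) :
    ∃ q : Ideal S, q.IsPrime ∧ q ≤ Q ∧ q.comap (algebraMap R S) = r := by
  haveI := hB.normal
  haveI := hB.integral
  haveI : p.IsPrime := hQ ▸ inferInstance
  obtain ⟨M, hM, Q₁, hinj, hQ₁⟩ := exists_point hB Q m hmQ hQ hm
  haveI : FaithfulSMul B ((B ⊗[R] S) ⧸ M) := (faithfulSMul_iff_algebraMap_injective _ _).2 hinj
  haveI : Algebra.IsIntegral B ((B ⊗[R] S) ⧸ M) :=
    Algebra.IsIntegral.of_surjective (Ideal.Quotient.mkₐ B M) Ideal.Quotient.mk_surjective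
  let ι : S →+* (B ⊗[R] S) ⧸ M := (Ideal.Quotient.mk M).comp Algebra.TensorProduct.includeRight.toRingHom
  have hι : ι.comp (algebraMap R S) = algebraMap R ((B ⊗[R] S) ⧸ M) := by
    refine RingHom.ext fun r => ?_
    show Ideal.Quotient.mk M ((1 : B) ⊗ₜ[R] algebraMap R S r) = _
    rw [← Algebra.TensorProduct.tmul_one_eq_one_tmul]
    rfl
  haveI : Q₁.asIdeal.IsPrime := Q₁.2
  have hP : (Q₁.asIdeal.under B).under R = p := by
    show (Q₁.asIdeal.comap (algebraMap B ((B ⊗[R] S) ⧸ M))).comap (algebraMap R B) = p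
    rw [Ideal.comap_comap, ← IsScalarTower.algebraMap_eq, ← hι, ← Ideal.comap_comap, hQ₁]
    exact hQ
  obtain ⟨r₁, hr₁, hr₁r⟩ := Ideal.exists_ideal_over_prime_of_isIntegral_of_isDomain (S := B) r hker
  obtain ⟨P₂, hle, hP₂, hP₂p⟩ := Ideal.exists_ideal_over_prime_of_isIntegral (S := B) p r₁ (hr₁r.le.trans hrp)
  have hPP := hB.unique P₂ (Q₁.asIdeal.under B) hP₂ inferInstance hP₂p hP
  subst hPP
  haveI := hr₁
  obtain ⟨N, hNQ, hN, hNr⟩ := Ideal.exists_ideal_le_liesOver_of_le (S := (B ⊗[R] S) ⧸ M) (p := r₁)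
    (q := Q₁.asIdeal.under B) Q₁.asIdeal hle
  refine ⟨N.comap ι, Ideal.comap_isPrime _ _, (Ideal.comap_mono hNQ).trans hQ₁.le, ?_⟩
  rw [Ideal.comap_comap, hι, IsScalarTower.algebraMap_eq R B, ← Ideal.comap_comap, ← hr₁r]
  exact congrArg _ hNr.over.symm

variable {X Y : Scheme.{u}}

theorem isUnivOpenAt_of_universallyOpen (f : X ⟶ Y) [UniversallyOpen f] (x : X) : EGA43.IsUnivOpenAt f x := by
  intro Y' g x' _ U hU
  haveI : UniversallyOpen (pullback.snd f g) := inferInstance
  exact (pullback.snd f g).isOpenMap.image_mem_nhds hU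

theorem isOpenMap_of_isOpenAt {α β : Type*} [TopologicalSpace α] [TopologicalSpace β] {f : α → β}
    (h : ∀ x, EGA43.IsOpenAt f x) : IsOpenMap f := fun U hU =>
  isOpen_iff_mem_nhds.2 fun y ⟨x, hx, hxy⟩ => hxy ▸ h x U (hU.mem_nhds hx)

theorem universallyOpen_of_forall (f : X ⟶ Y) (h : ∀ x, EGA43.IsUnivOpenAt f x) : UniversallyOpen f := by
  refine ⟨?_⟩
  intro X' Y' i₁ i₂ f' hsq
  have h1 : IsOpenMap (pullback.snd f i₂).base := isOpenMap_of_isOpenAt fun x' => h _ Y' i₂ x' rfl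
  have h2 := hsq.flip.isoPullback_hom_snd
  show IsOpenMap f'.base
  have h3 : IsOpenMap ((hsq.flip.isoPullback.hom ≫ pullback.snd f i₂).base) := by
    rw [Scheme.Hom.comp_base, TopCat.coe_comp]
    exact h1.comp hsq.flip.isoPullback.hom.homeomorph.isOpenMap
  rwa [h2] at h3


theorem exists_max {Z : Scheme.{u}} (z : Z) : ∃ t, t ⤳ z ∧ ∀ y, y ⤳ t → y = t := by
  obtain ⟨g, hg, hmax⟩ := VarDim.exists_generic_of_mem_irreducibleComponents
    (irreducibleComponent_mem_irreducibleComponents z)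
  exact ⟨g, specializes_iff_mem_closure.2 (hg.symm ▸ mem_irreducibleComponent), hmax⟩

theorem max_of_irreducible [IrreducibleSpace X] (y : X) (hy : y ⤳ genericPoint X) : y = genericPoint X :=
  (hy.antisymm ((genericPoint_spec X).specializes trivial)).eq

theorem apply_genericPoint [IrreducibleSpace X] [IrreducibleSpace Y] (f : X ⟶ Y) (hd : DenseRange f.base) :
    f (genericPoint X) = genericPoint Y := by
  refine IsGenericPoint.eq (?_ : closure {f (genericPoint X)} = Set.univ) (genericPoint_spec Y)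
  rw [Set.eq_univ_iff_forall]
  intro y
  refine closure_minimal ?_ isClosed_closure (hd y)
  rintro _ ⟨a, rfl⟩
  exact (((genericPoint_spec X).specializes (y := a) trivial).map f.continuous).mem_closure

end Groth.Agent.Unibr4
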