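import Groth.Agent.Lib.Unibr4.Univ
import Groth.Agent.Lib.QFAffine4
import Groth.Agent.Lib.FibGenSch4
import Groth.Agent.Lib.VarDim.Irred
import Groth.Agent.Lib.AffChart4

/-!
# EGA IV 14.4: openness over unibranch points
-/

universe u

open CategoryTheory AlgebraicGeometry Topology TopologicalSpace Groth.Agent.FibDim14

set_option backward.isDefEq.respectTransparency.types false

attribute [local instance] MvPolynomial.algebraMvPolynomial

namespace Groth.Agent.Unibr4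

theorem quasiFiniteAt_of_SpecMap {A B : CommRingCat.{u}} (φ : A ⟶ B) (hφ : φ.hom.FiniteType)
    (z : Spec B) (h : (Spec.map φ).QuasiFiniteAt z) :
    letI := φ.hom.toAlgebra
    Algebra.QuasiFiniteAt A z.asIdeal := by
  algebraize [φ.hom]
  haveI : LocallyOfFiniteType (Spec.map φ) := (HasRingHomProperty.Spec_iff (P := @LocallyOfFiniteType)).2 hφ
  rw [Scheme.Hom.quasiFiniteAt_iff_isOpen_singleton_asFiber, ← ((Spec.map φ).fiberHomeo _).isOpen_image] at h
  simp only [Set.image_singleton, Scheme.Hom.asFiber, Homeomorph.apply_symm_apply] at h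
  exact (Algebra.quasiFiniteAt_iff_isOpen_singleton_fiber (R := A) z).2 h

/-- the data of the normalisation at a point of a scheme -/
theorem exists_data {Y : Scheme.{u}} {V : Y.Opens} (hV : IsAffineOpen V) (y : Y) (hy : y ∈ V)
    (hnoe : IsLocallyNoetherian Y ∨ IrreducibleSpace Y)
    (hu : CAlg2.IsUnibranch (Y.presheaf.stalk y)) :
    ∃ (B : Type u) (_ : CommRing B) (_ : IsDomain B) (_ : Algebra Γ(Y, V) B),
      UB (hV.primeIdealOf ⟨y, hy⟩).asIdeal B ∧
        (CAlg2.IsGeomUnibranch (Y.presheaf.stalk y) → Rad (hV.primeIdealOf ⟨y, hy⟩).asIdeal B) ∧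
        ∀ g : Y, g ⤳ y → (∀ g', g' ⤳ g → g' = g) → ∀ hg : g ∈ V,
          RingHom.ker (algebraMap Γ(Y, V) B) = (hV.primeIdealOf ⟨g, hg⟩).asIdeal := by
  letI := TopCat.Presheaf.algebra_section_stalk Y.presheaf (⟨y, hy⟩ : V)
  haveI : IsLocalization.AtPrime (Y.presheaf.stalk y) (hV.primeIdealOf ⟨y, hy⟩).asIdeal := hV.isLocalization_stalk ⟨y, hy⟩
  set p := (hV.primeIdealOf ⟨y, hy⟩).asIdeal
  haveI : p.IsPrime := (hV.primeIdealOf ⟨y, hy⟩).2
  haveI := hu.1
  have hnhd : PrimeSpectrum.zeroLocus (RingHom.ker (algebraMap Γ(Y, V) (CAlg2.red (Y.presheaf.stalk y))) : Set Γ(Y, V)) ∈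
      𝓝 (⟨p, ‹_›⟩ : PrimeSpectrum Γ(Y, V)) := by
    rcases hnoe with h | h
    · haveI : IsNoetherianRing Γ(Y, V) := IsLocallyNoetherian.component_noetherian ⟨V, hV⟩
      exact nhd_of_noetherian p hu.1
    · refine nhd_of_irreducible p hu.1 ?_
      have hVirr : IsPreirreducible (V : Set Y) :=
        PreirreducibleSpace.isPreirreducible_univ.open_subset V.2 (Set.subset_univ _)
      haveI : PreirreducibleSpace (V : Scheme.{u}) := Subtype.preirreducibleSpace hVirr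
      haveI : Nonempty (V : Scheme.{u}) := ⟨⟨y, hy⟩⟩
      haveI : IrreducibleSpace (V : Scheme.{u}) := ⟨inferInstance⟩
      have hS : IsIrreducible (Set.univ : Set (Spec Γ(Y, V))) := by
        rw [← hV.isoSpec.hom.homeomorph.surjective.range_eq, ← Set.image_univ]
        exact (IrreducibleSpace.isIrreducible_univ _).image _ hV.isoSpec.hom.continuous.continuousOn
      exact PrimeSpectrum.irreducibleSpace_iff_isPrime_nilradical.1 ((irreducibleSpace_def _).2 hS)
  refine ⟨NB Γ(Y, V) (Y.presheaf.stalk y), inferInstance, inferInstance, inferInstance, ub_NB p hu hnhd,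
    fun h => rad_NB p h, fun g hgy hmax hg => ?_⟩
  rw [ker_NB (A := Y.presheaf.stalk y)]
  let q : Spec Γ(Y, V) := hV.primeIdealOf ⟨g, hg⟩
  haveI : q.asIdeal.IsPrime := q.2
  have hqp : q ⤳ (hV.primeIdealOf ⟨y, hy⟩ : Spec Γ(Y, V)) := by
    rw [← hV.fromSpec.isEmbedding.isInducing.specializes_iff, hV.fromSpec_primeIdealOf, hV.fromSpec_primeIdealOf]
    exact hgy
  have hle : RingHom.ker (algebraMap Γ(Y, V) (CAlg2.red (Y.presheaf.stalk y))) ≤ q.asIdeal :=
    ker_le_of_le p ((PrimeSpectrum.le_iff_specializes q _).2 hqp)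
  haveI : (RingHom.ker (algebraMap Γ(Y, V) (CAlg2.red (Y.presheaf.stalk y)))).IsPrime := RingHom.ker_isPrime _
  let k : Spec Γ(Y, V) := ⟨_, this⟩
  have h0 := ((PrimeSpectrum.le_iff_specializes k q).1 hle).map hV.fromSpec.continuous
  rw [show hV.fromSpec q = g from hV.fromSpec_primeIdealOf ⟨g, hg⟩] at h0
  have h1 := hmax (hV.fromSpec k) h0
  exact congrArg PrimeSpectrum.asIdeal (hV.fromSpec.isOpenEmbedding.injective
    (h1.trans (hV.fromSpec_primeIdealOf ⟨g, hg⟩).symm) : k = q)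

variable {X Y : Scheme.{u}} (f : X ⟶ Y) [LocallyOfFiniteType f]

/-- EGA IV 14.4.1: over a geometrically unibranch point a map is universally open at a point lying
on a component with generic fibre of at least the dimension of the fibre. -/
theorem isUnivOpenAt (x t : X) (hnoe : IsLocallyNoetherian Y ∨ IrreducibleSpace Y)
    (hy : CAlg2.IsGeomUnibranch (Y.presheaf.stalk (f x))) (htx : t ⤳ x) (hmax : ∀ y, y ⤳ f t → y = f t)
    (hdim : FlatMor.fibreDimAt f x ≤ (rd f t : WithBot ℕ∞)) : EGA43.IsUnivOpenAt f x := by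
  obtain ⟨V, hV, U, hU, hUV, hxU, H⟩ := QFAffine4.exists_chart_qfAt f x hdim
  let φ := f.appLE V U hUV
  letI : Algebra Γ(Y, V) Γ(X, U) := φ.hom.toAlgebra
  obtain ⟨e, b, he, hqf⟩ := H
  haveI : Algebra.FiniteType Γ(Y, V) Γ(X, U) := f.finiteType_appLE hV hU hUV
  have htU : t ∈ U := htx.mem_open U.2 hxU
  let C := CommRingCat.of (MvPolynomial (Fin e) Γ(Y, V))
  let ψ : C ⟶ Γ(X, U) := CommRingCat.ofHom (MvPolynomial.aeval (R := Γ(Y, V)) b).toRingHom
  letI : Algebra (MvPolynomial (Fin e) Γ(Y, V)) Γ(X, U) := ψ.hom.toAlgebra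
  haveI : IsScalarTower Γ(Y, V) (MvPolynomial (Fin e) Γ(Y, V)) Γ(X, U) :=
    IsScalarTower.of_algebraMap_eq fun r => ((MvPolynomial.aeval (R := Γ(Y, V)) b).commutes r).symm
  haveI : Algebra.FiniteType (MvPolynomial (Fin e) Γ(Y, V)) Γ(X, U) :=
    Algebra.FiniteType.of_restrictScalars_finiteType Γ(Y, V) _ _
  haveI : LocallyOfFiniteType (Spec.map ψ) :=
    (HasRingHomProperty.Spec_iff (P := @LocallyOfFiniteType)).2 ‹Algebra.FiniteType (MvPolynomial (Fin e) Γ(Y, V)) Γ(X, U)›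
  let π₀ : Spec C ⟶ Spec Γ(Y, V) :=
    Spec.map (CommRingCat.ofHom (algebraMap Γ(Y, V) (MvPolynomial (Fin e) Γ(Y, V))))
  haveI : LocallyOfFiniteType π₀ := (HasRingHomProperty.Spec_iff (P := @LocallyOfFiniteType)).2
    (RingHom.finiteType_algebraMap.2 inferInstance)
  let Q : Spec Γ(X, U) := hU.primeIdealOf ⟨x, hxU⟩
  let T : Spec Γ(X, U) := hU.primeIdealOf ⟨t, htU⟩
  have hT : hU.fromSpec T = t := hU.fromSpec_primeIdealOf ⟨t, htU⟩
  have hTQ : T ⤳ Q := by
    rw [← hU.fromSpec.isEmbedding.isInducing.specializes_iff, hU.fromSpec_primeIdealOf, hU.fromSpec_primeIdealOf]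
    exact htx
  haveI : Q.asIdeal.IsPrime := Q.2
  haveI : T.asIdeal.IsPrime := T.2
  haveI hqfQ : Algebra.QuasiFiniteAt (MvPolynomial (Fin e) Γ(Y, V)) Q.asIdeal :=
    quasiFiniteAt_of_SpecMap ψ ‹Algebra.FiniteType (MvPolynomial (Fin e) Γ(Y, V)) Γ(X, U)› Q hqf
  have hcomp : Spec.map ψ ≫ π₀ ≫ hV.fromSpec = hU.fromSpec ≫ f := by
    rw [← Category.assoc, show Spec.map ψ ≫ π₀ = Spec.map φ from ?_]
    · exact IsAffineOpen.SpecMap_appLE_fromSpec f hV hU hUV
    · rw [← Spec.map_comp]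
      exact congrArg Spec.map (CommRingCat.hom_ext (RingHom.ext fun r => (MvPolynomial.aeval b).commutes r))
  have hfyV : f x ∈ V := hUV hxU
  have hftV : f t ∈ V := hUV htU
  obtain ⟨B, _, _, _, hB, hrad, hker⟩ := exists_data hV (f x) hfyV hnoe hy.1
  have hk := hker (f t) (htx.map f.continuous) hmax hftV
  have hrd : rd f t = rd π₀ (Spec.map ψ T) + rd (Spec.map ψ) T := by
    have h1 : rd (hU.fromSpec ≫ f) T = rd f t := by
      rw [rd_comp, rd_of_surjectiveOnStalks hU.fromSpec, add_zero, hT]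
    have h2 : rd (Spec.map ψ ≫ π₀ ≫ hV.fromSpec) T = rd π₀ (Spec.map ψ T) + rd (Spec.map ψ) T := by
      rw [rd_comp, rd_comp π₀ hV.fromSpec, rd_of_surjectiveOnStalks hV.fromSpec, zero_add]
    simp only [← hcomp] at h1
    rw [← h1, h2]
  have hT0 : rd (Spec.map ψ) T = 0 := by
    have hQF : (Spec.map ψ).QuasiFiniteAt T := hTQ.mem_open (Spec.map ψ).quasiFiniteLocus.2 hqf
    have h := rd_le_fibreDimAt (Spec.map ψ) (specializes_refl T) rfl
    rw [(fibreDimAt_eq_zero_iff (Spec.map ψ) T).2 hQF] at h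
    exact Nat.le_zero.1 (by exact_mod_cast h)
  rw [hT0, add_zero] at hrd
  have hle : rd π₀ (Spec.map ψ T) ≤ e := by
    have h := rd_le_fibreDimAt π₀ (specializes_refl (Spec.map ψ T)) rfl
    rw [FibGen4.fibreDimAt_affineSpace] at h
    exact_mod_cast h
  have hmaxfib := AffChart4.isMaxFib_of_rd_eq π₀ (x := Spec.map ψ T) (n := e)
    (fun y => (FibGen4.fibreDimAt_affineSpace e y).le) (by omega)
  refine isUnivOpenAt_of_affine f x hV hU hUV hxU fun n Qn hQn =>
    isOpenAt_poly hB (hrad hy) e Q.asIdeal T.asIdeal ((PrimeSpectrum.le_iff_specializes T Q).2 hTQ) ?_ ?_ n Qn hQn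
  · exact congrArg PrimeSpectrum.asIdeal (IsAffineOpen.comap_primeIdealOf_appLE V hV U hU hUV hxU)
  · rw [ker_poly, hk]
    set k0 := hV.primeIdealOf ⟨f t, hftV⟩
    haveI : k0.asIdeal.IsPrime := k0.2
    haveI : (k0.asIdeal.map (MvPolynomial.C : Γ(Y, V) →+* MvPolynomial (Fin e) Γ(Y, V))).IsPrime := by
      rw [show k0.asIdeal.map (MvPolynomial.C : Γ(Y, V) →+* MvPolynomial (Fin e) Γ(Y, V)) =
        RingHom.ker (MvPolynomial.map (Ideal.Quotient.mk k0.asIdeal)) by rw [MvPolynomial.ker_map, Ideal.mk_ker]]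
      exact RingHom.ker_isPrime _
    let g : Spec C := ⟨_, this⟩
    have hπT : π₀ (Spec.map ψ T) = k0 := by
      refine hV.fromSpec.isOpenEmbedding.injective ?_
      rw [hV.fromSpec_primeIdealOf, ← Scheme.Hom.comp_apply, ← Scheme.Hom.comp_apply, hcomp, Scheme.Hom.comp_apply, hT]
    have hgle : g.asIdeal ≤ (Spec.map ψ T).asIdeal :=
      Ideal.map_le_iff_le_comap.2 (congrArg PrimeSpectrum.asIdeal hπT).ge
    have hπg : π₀ g = π₀ (Spec.map ψ T) := by
      rw [hπT]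
      refine PrimeSpectrum.ext ?_
      show g.asIdeal.comap MvPolynomial.C = k0.asIdeal
      refine le_antisymm ((Ideal.comap_mono hgle).trans (congrArg PrimeSpectrum.asIdeal hπT).le) Ideal.le_comap_map
    have hgeq := hmaxfib g ((PrimeSpectrum.le_iff_specializes g _).1 hgle) hπg
    exact (congrArg PrimeSpectrum.asIdeal hgeq).ge

/-- A locally quasi-finite map is open at a point over a unibranch point on a dominating component. -/
theorem isOpenAt (x t : X) (hnoe : IsLocallyNoetherian Y ∨ IrreducibleSpace Y)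
    (hy : CAlg2.IsUnibranch (Y.presheaf.stalk (f x))) (htx : t ⤳ x) (hmax : ∀ y, y ⤳ f t → y = f t)
    (hqf : f.QuasiFiniteAt x) : EGA43.IsOpenAt f.base x := by
  obtain ⟨V, hV, hyV, -⟩ := exists_isAffineOpen_mem_and_subset (U := (⊤ : Y.Opens)) (x := f x) trivial
  obtain ⟨U, hU, hxU, hUV⟩ := exists_isAffineOpen_mem_and_subset (U := f ⁻¹ᵁ V) (x := x) hyV
  have hUV : U ≤ f ⁻¹ᵁ V := hUV
  let φ := f.appLE V U hUV
  letI : Algebra Γ(Y, V) Γ(X, U) := φ.hom.toAlgebra
  haveI hft : Algebra.FiniteType Γ(Y, V) Γ(X, U) := f.finiteType_appLE hV hU hUV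
  have htU : t ∈ U := htx.mem_open U.2 hxU
  haveI : LocallyOfFiniteType (Spec.map φ) := (HasRingHomProperty.Spec_iff (P := @LocallyOfFiniteType)).2 hft
  let Q : Spec Γ(X, U) := hU.primeIdealOf ⟨x, hxU⟩
  let T : Spec Γ(X, U) := hU.primeIdealOf ⟨t, htU⟩
  haveI : Q.asIdeal.IsPrime := Q.2
  haveI : T.asIdeal.IsPrime := T.2
  have hQ : hU.fromSpec Q = x := hU.fromSpec_primeIdealOf ⟨x, hxU⟩
  have hcomp : Spec.map φ ≫ hV.fromSpec = hU.fromSpec ≫ f := IsAffineOpen.SpecMap_appLE_fromSpec f hV hU hUV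
  have hTQ : T ⤳ Q := by
    rw [← hU.fromSpec.isEmbedding.isInducing.specializes_iff, hU.fromSpec_primeIdealOf, hU.fromSpec_primeIdealOf]
    exact htx
  have hqfQ : (Spec.map φ).QuasiFiniteAt Q := by
    rw [← Scheme.Hom.quasiFiniteAt_comp_iff (g := hV.fromSpec), hcomp,
      Scheme.Hom.quasiFiniteAt_comp_iff_of_isOpenImmersion, hQ]
    exact hqf
  haveI : Algebra.QuasiFiniteAt Γ(Y, V) Q.asIdeal := quasiFiniteAt_of_SpecMap φ hft Q hqfQ
  obtain ⟨B, _, _, _, hB, -, hker⟩ := exists_data hV (f x) hyV hnoe hy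
  have hk := hker (f t) (htx.map f.continuous) hmax (hUV htU)
  have hopen := isOpenAt_of_quasiFiniteAt hB Q.asIdeal T.asIdeal ((PrimeSpectrum.le_iff_specializes T Q).2 hTQ)
    (congrArg PrimeSpectrum.asIdeal (IsAffineOpen.comap_primeIdealOf_appLE V hV U hU hUV hxU))
    (le_of_eq ((congrArg PrimeSpectrum.asIdeal (IsAffineOpen.comap_primeIdealOf_appLE V hV U hU hUV htU)).trans hk.symm))
  intro O hO
  have h1 := hopen (hU.fromSpec ⁻¹' O) (hU.fromSpec.continuous.continuousAt.preimage_mem_nhds (hQ.symm ▸ hO))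
  have h2 := hV.fromSpec.isOpenEmbedding.isOpenMap.image_mem_nhds h1
  have h3 : hV.fromSpec (Spec.map φ Q) = f x := by
    rw [← Scheme.Hom.comp_apply, hcomp, Scheme.Hom.comp_apply, hQ]
  change (hV.fromSpec '' (Spec.map φ '' (hU.fromSpec ⁻¹' O))) ∈ 𝓝 (hV.fromSpec (Spec.map φ Q)) at h2
  rw [h3] at h2
  refine Filter.mem_of_superset h2 ?_
  rintro _ ⟨_, ⟨a, ha, rfl⟩, rfl⟩
  refine ⟨hU.fromSpec a, ha, ?_⟩
  rw [← Scheme.Hom.comp_apply, ← Scheme.Hom.comp_apply, hcomp]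

end Groth.Agent.Unibr4
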