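import Groth.Agent.Lib.Unibr4.Data
import Groth.Agent.Lib.NormalSmooth12.Basic
import Mathlib.RingTheory.Smooth.Flat
import Mathlib.RingTheory.IntegralClosure.IsIntegralClosure.Basic

/-!
# Smooth algebras over geometrically unibranch points are locally domains
-/

universe u

open TensorProduct

namespace Groth.Agent.Unibr4

variable {A B C : Type u} [CommRing A] [CommRing B] [IsDomain B] [Algebra A B] [CommRing C] [Algebra A C]
  {p : Ideal A}

/-- modulo a prime over the point, a power of an element of `C ⊗ B` comes from `C` -/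
theorem exists_pow_tensor [p.IsPrime] (R : Ideal (C ⊗[A] B)) (e : ℕ)
    [ExpChar (C ⊗[A] B ⧸ R) e]
    (hb : ∀ b : B, ∃ (n : ℕ) (s a : A), s ∉ p ∧
      algebraMap A B s * b ^ (e ^ n) - algebraMap A B a ∈ R.comap Algebra.TensorProduct.includeRight.toRingHom)
    (x : C ⊗[A] B) :
    ∃ (n : ℕ) (s : A) (c : C), s ∉ p ∧
      algebraMap A (C ⊗[A] B) s * x ^ (e ^ n) - c ⊗ₜ[A] (1 : B) ∈ R := by
  induction x using TensorProduct.induction_on with
  | zero => exact ⟨0, 1, 0, ‹p.IsPrime›.one_notMem, by simp⟩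
  | tmul c b =>
    obtain ⟨n, s, a, hs, h⟩ := hb b
    refine ⟨n, s, c ^ (e ^ n) * algebraMap A C a, hs, ?_⟩
    have h2 := R.mul_mem_left ((c ^ (e ^ n)) ⊗ₜ[A] (1 : B)) (Ideal.mem_comap.1 h)
    rw [show ((c ^ (e ^ n)) ⊗ₜ[A] (1 : B)) * Algebra.TensorProduct.includeRight.toRingHom
        (algebraMap A B s * b ^ (e ^ n) - algebraMap A B a) =
        algebraMap A (C ⊗[A] B) s * (c ⊗ₜ[A] b) ^ (e ^ n) - (c ^ (e ^ n) * algebraMap A C a) ⊗ₜ[A] (1 : B) from ?_] at h2
    · exact h2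
    simp only [AlgHom.toRingHom_eq_coe, RingHom.coe_coe, Algebra.TensorProduct.includeRight_apply,
      TensorProduct.tmul_sub, Algebra.TensorProduct.tmul_mul_tmul, mul_sub, one_mul, mul_one,
      Algebra.TensorProduct.tmul_pow, Algebra.TensorProduct.algebraMap_apply]
    congr 1
    · rw [← Algebra.smul_def, TensorProduct.tmul_smul, TensorProduct.smul_tmul', Algebra.smul_def]
    · rw [Algebra.algebraMap_eq_smul_one, TensorProduct.tmul_smul, TensorProduct.smul_tmul',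
        mul_comm, ← Algebra.smul_def]
  | add x y hx hy =>
    obtain ⟨n₁, s₁, c₁, hs₁, h₁⟩ := hx
    obtain ⟨n₂, s₂, c₂, hs₂, h₂⟩ := hy
    let q := Ideal.Quotient.mk R
    rw [← Ideal.Quotient.eq_zero_iff_mem, map_sub, sub_eq_zero, map_mul, map_pow] at h₁ h₂
    refine ⟨n₁ + n₂, s₁ ^ e ^ n₂ * s₂ ^ e ^ n₁,
      algebraMap A C (s₂ ^ e ^ n₁) * c₁ ^ e ^ n₂ + algebraMap A C (s₁ ^ e ^ n₂) * c₂ ^ e ^ n₁,
      fun h => (Ideal.IsPrime.mem_or_mem ‹_› h).elim (fun h => hs₁ (Ideal.IsPrime.mem_of_pow_mem ‹_› _ h))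
        (fun h => hs₂ (Ideal.IsPrime.mem_of_pow_mem ‹_› _ h)), ?_⟩
    have h₁' := congrArg (· ^ e ^ n₂) h₁
    have h₂' := congrArg (· ^ e ^ n₁) h₂
    simp only [mul_pow, ← pow_mul, ← pow_add] at h₁' h₂'
    rw [Nat.add_comm n₂ n₁] at h₂'
    have hl : ∀ c : C, c ⊗ₜ[A] (1 : B) = Algebra.TensorProduct.includeLeftRingHom c := fun _ => rfl
    rw [← Ideal.Quotient.eq_zero_iff_mem, map_sub, sub_eq_zero, map_mul, map_pow]
    simp only [map_add, map_mul, map_pow, hl, add_pow_expChar_pow] at h₁' h₂' ⊢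
    rw [← h₁', ← h₂']
    have ha : ∀ a : A, Algebra.TensorProduct.includeLeftRingHom (algebraMap A C a) = algebraMap A (C ⊗[A] B) a :=
      fun _ => rfl
    simp only [ha]
    ring

/-- at most one prime of `C ⊗ B` over a prime over the point -/
theorem prime_tensor_unique [p.IsPrime] (hB : UB p B) (hrad : Rad p B) (Q : Ideal C) [Q.IsPrime]
    (hQ : Q.comap (algebraMap A C) = p) (R₁ R₂ : Ideal (C ⊗[A] B)) [R₁.IsPrime] [R₂.IsPrime]
    (h₁ : R₁.comap Algebra.TensorProduct.includeLeftRingHom = Q)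
    (h₂ : R₂.comap Algebra.TensorProduct.includeLeftRingHom = Q) : R₁ = R₂ := by
  obtain ⟨e, he⟩ := hrad
  let ρ : B →+* C ⊗[A] B := Algebra.TensorProduct.includeRight.toRingHom
  have key : ∀ (R : Ideal (C ⊗[A] B)) [R.IsPrime], R.comap Algebra.TensorProduct.includeLeftRingHom = Q →
      (R.comap ρ).IsPrime ∧ (R.comap ρ).under A = p := fun R _ hR => by
    refine ⟨Ideal.comap_isPrime _ _, ?_⟩
    rw [← hQ, ← hR, Ideal.under, Ideal.comap_comap, Ideal.comap_comap]
    congr 1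
    exact RingHom.ext fun a => ((Algebra.TensorProduct.includeRight (R := A) (A := C) (B := B)).commutes a)
  obtain ⟨hp₁, hu₁⟩ := key R₁ h₁
  obtain ⟨hp₂, hu₂⟩ := key R₂ h₂
  have hP := hB.unique _ _ hp₁ hp₂ hu₁ hu₂
  obtain ⟨hexp, hb⟩ := he _ hp₁ hu₁
  haveI := hexp
  have hI : (R₁ ⊓ R₂).comap ρ = R₁.comap ρ := by rw [Ideal.comap_inf, ← hP, inf_idem]
  haveI : ExpChar (C ⊗[A] B ⧸ (R₁ ⊓ R₂)) e :=
    ((Ideal.quotientMap (R₁ ⊓ R₂) ρ hI.ge).expChar_iff (Ideal.quotientMap_injective' hI.le) e).1 inferInstance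
  ext x
  obtain ⟨n, s, c, hs, h⟩ := exists_pow_tensor (R₁ ⊓ R₂) e (fun b => by rw [hI]; exact hb b) x
  -- both are governed by elements of `C`
  have gov : ∀ (R : Ideal (C ⊗[A] B)) [R.IsPrime], R.comap Algebra.TensorProduct.includeLeftRingHom = Q →
      ∀ (n : ℕ) (s : A) (c : C), s ∉ p → algebraMap A (C ⊗[A] B) s * x ^ (e ^ n) - c ⊗ₜ[A] (1 : B) ∈ R →
        (x ∈ R ↔ c ∈ Q) := by
    intro R _ hR n s c hs h
    rw [← hR, Ideal.mem_comap]
    have hsR : algebraMap A (C ⊗[A] B) s ∉ R := fun h' => hs (by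
      rw [← hQ, ← hR]
      exact h')
    constructor
    · intro hx
      exact (R.sub_mem_iff_right (R.mul_mem_left _ (R.pow_mem_of_mem hx _
        (Nat.pow_pos (expChar_pos (B ⧸ R₁.comap ρ) e))))).1 h
    · intro hc
      exact Ideal.IsPrime.mem_of_pow_mem ‹_› _
        ((Ideal.IsPrime.mem_or_mem ‹_› ((R.sub_mem_iff_left hc).1 h)).resolve_left hsR)
  rw [gov R₁ h₁ n s c hs h.1, gov R₂ h₂ n s c hs h.2]

/-- EGA IV 15.3: a smooth algebra over a domain, at a prime over a geometrically unibranch point, is a domain. -/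
theorem isDomain_localization_of_smooth [p.IsPrime] (hB : UB p B) (hrad : Rad p B)
    (hinj : Function.Injective (algebraMap A B)) [Algebra.Smooth A C] (Q : Ideal C) [Q.IsPrime]
    (hQ : Q.comap (algebraMap A C) = p) : IsDomain (Localization.AtPrime Q) := by
  haveI := hB.normal
  haveI := hB.integral
  haveI : Module.Flat A C := Algebra.Smooth.flat A C
  let ι : C →+* C ⊗[A] B := Algebra.TensorProduct.includeLeftRingHom
  have hι : Function.Injective ι := Algebra.TensorProduct.includeLeft_injective (R := A) (S := C) hinj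
  haveI : Algebra.IsIntegral C (C ⊗[A] B) := inferInstance
  haveI : Algebra.Smooth B (B ⊗[A] C) := inferInstance
  have hnormal : EGA4.IsNormalRing (B ⊗[A] C) := NormalSmooth12.isNormalRing_of_smooth_domain (R := B)
  obtain ⟨R, hR, hRQ⟩ : ∃ R : Ideal (C ⊗[A] B), R.IsPrime ∧ R.comap ι = Q := by
    obtain ⟨R, -, hR, hRQ⟩ := Ideal.exists_ideal_over_prime_of_isIntegral (S := C ⊗[A] B) Q ⊥
      (by rw [show (⊥ : Ideal (C ⊗[A] B)).comap (algebraMap C (C ⊗[A] B)) = RingHom.ker ι from rfl,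
        (RingHom.injective_iff_ker_eq_bot ι).1 hι]; exact bot_le)
    exact ⟨R, hR, hRQ⟩
  haveI := hR
  -- the annihilator of an element killed at `R` meets the complement of `Q`
  have key : ∀ (a : C) (t : C ⊗[A] B), t ∉ R → t * ι a = 0 → ∃ s ∉ Q, s * a = 0 := by
    intro a t ht hta
    by_contra hcon
    push Not at hcon
    let J : Ideal (C ⊗[A] B) := LinearMap.ker (LinearMap.mulRight (C ⊗[A] B) (ι a))
    have hJ : J.comap (algebraMap C (C ⊗[A] B)) ≤ Q := fun c hc => by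
      by_contra hcQ
      refine hcon c hcQ (hι ?_)
      rw [map_mul, map_zero]
      exact hc
    obtain ⟨R', hJR', hR', hR'Q⟩ := Ideal.exists_ideal_over_prime_of_isIntegral (S := C ⊗[A] B) Q J hJ
    haveI := hR'
    rw [prime_tensor_unique hB hrad Q hQ R' R hR'Q hRQ] at hJR'
    exact ht (hJR' hta)
  let e := Algebra.TensorProduct.comm A C B
  let R0 : Ideal (B ⊗[A] C) := R.comap e.symm.toRingHom
  haveI : R0.IsPrime := Ideal.comap_isPrime _ _
  haveI := (hnormal R0).1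
  have hzero : ∀ a b : C, a * b = 0 → (∃ t ∉ R, t * ι a = 0) ∨ ∃ t ∉ R, t * ι b = 0 := by
    intro a b hab
    have h1 : algebraMap (B ⊗[A] C) (Localization.AtPrime R0) (e (ι a)) *
        algebraMap (B ⊗[A] C) (Localization.AtPrime R0) (e (ι b)) = 0 := by
      rw [← map_mul, ← map_mul, ← map_mul, hab, map_zero, map_zero, map_zero]
    have h2 : ∀ c, algebraMap (B ⊗[A] C) (Localization.AtPrime R0) (e (ι c)) = 0 → ∃ t ∉ R, t * ι c = 0 := by
      intro c hc
      obtain ⟨t, ht⟩ := (IsLocalization.map_eq_zero_iff R0.primeCompl (Localization.AtPrime R0) _).1 hc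
      refine ⟨e.symm t, t.2, e.injective ?_⟩
      rw [map_mul, e.apply_symm_apply, ht, map_zero]
    exact (mul_eq_zero.1 h1).imp (h2 a) (h2 b)
  refine @NoZeroDivisors.to_isDomain _ _ _ ⟨fun {x y} hxy => ?_⟩
  obtain ⟨a, s, rfl⟩ := IsLocalization.exists_mk'_eq Q.primeCompl x
  obtain ⟨b, s', rfl⟩ := IsLocalization.exists_mk'_eq Q.primeCompl y
  rw [← IsLocalization.mk'_mul, IsLocalization.mk'_eq_zero_iff] at hxy
  obtain ⟨r, hr⟩ := hxy
  rcases hzero (r * a) b (by rw [mul_assoc, hr]) with ⟨t, ht, h⟩ | ⟨t, ht, h⟩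
  · obtain ⟨s'', hs'', h'⟩ := key _ t ht h
    refine .inl ((IsLocalization.mk'_eq_zero_iff _ _).2 ⟨⟨s'' * r, Q.primeCompl.mul_mem hs'' r.2⟩, ?_⟩)
    rw [← h', mul_assoc]
  · obtain ⟨s'', hs'', h'⟩ := key _ t ht h
    exact .inr ((IsLocalization.mk'_eq_zero_iff _ _).2 ⟨⟨s'', hs''⟩, h'⟩)

end Groth.Agent.Unibr4
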