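import Groth.Agent.Lib.Unibr4.Data
import Mathlib.RingTheory.Polynomial.IsIntegral
import Mathlib.Algebra.MvPolynomial.Equiv
import Mathlib.Algebra.CharP.Lemmas

/-!
# Polynomial rings over unibranch points
-/

universe u

open Topology PrimeSpectrum MvPolynomial

attribute [local instance] MvPolynomial.algebraMvPolynomial

namespace Groth.Agent.Unibr4

theorem isIntegrallyClosed_mvPolynomial (B : Type u) [CommRing B] [IsDomain B] [IsIntegrallyClosed B] :
    ∀ n : ℕ, IsIntegrallyClosed (MvPolynomial (Fin n) B)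
  | 0 => IsIntegrallyClosed.of_equiv (MvPolynomial.isEmptyAlgEquiv B (Fin 0)).symm.toRingEquiv
  | n + 1 =>
    haveI := isIntegrallyClosed_mvPolynomial B n
    IsIntegrallyClosed.of_equiv (MvPolynomial.finSuccEquiv B n).symm.toRingEquiv

variable {R : Type u} [CommRing R] {p : Ideal R} {B : Type u} [CommRing B] [IsDomain B] [Algebra R B] {n : ℕ}

omit [IsDomain B] in
theorem mem_map_C_of_forall {I : Ideal B} {f : MvPolynomial (Fin n) B} (h : ∀ m, f.coeff m ∈ I) :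
    f ∈ I.map (C : B →+* MvPolynomial (Fin n) B) := MvPolynomial.mem_map_C_iff.2 h

/-- powers of polynomials come from the base, modulo the point -/
theorem exists_pow [p.IsPrime] (P : Ideal B) [P.IsPrime] (hP : P.under R = p) (e : ℕ) [ExpChar (B ⧸ P) e]
    (hb : ∀ b : B, ∃ (m : ℕ) (s a : R), s ∉ p ∧ algebraMap R B s * b ^ (e ^ m) - algebraMap R B a ∈ P)
    (f : MvPolynomial (Fin n) B) :
    ∃ (m : ℕ) (s : R) (a : MvPolynomial (Fin n) R), s ∉ p ∧
      C (algebraMap R B s) * f ^ (e ^ m) - algebraMap (MvPolynomial (Fin n) R) (MvPolynomial (Fin n) B) a ∈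
        P.map (C : B →+* MvPolynomial (Fin n) B) := by
  let π : MvPolynomial (Fin n) B →+* MvPolynomial (Fin n) (B ⧸ P) := MvPolynomial.map (Ideal.Quotient.mk P)
  haveI : ExpChar (MvPolynomial (Fin n) (B ⧸ P)) e :=
    ((C : (B ⧸ P) →+* MvPolynomial (Fin n) (B ⧸ P)).expChar_iff (MvPolynomial.C_injective _ _) e).1 inferInstance
  let ρ := π.comp (algebraMap (MvPolynomial (Fin n) R) (MvPolynomial (Fin n) B))
  have hρC : ∀ r, ρ (C r) = C (Ideal.Quotient.mk P (algebraMap R B r)) := fun r => by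
    simp [ρ, π]
  suffices ∃ (m : ℕ) (s : R) (a : MvPolynomial (Fin n) R), s ∉ p ∧ ρ (C s) * π f ^ (e ^ m) = ρ a by
    obtain ⟨m, s, a, hs, h⟩ := this
    refine ⟨m, s, a, hs, ?_⟩
    have hker : RingHom.ker π = P.map (C : B →+* MvPolynomial (Fin n) B) := by
      rw [MvPolynomial.ker_map, Ideal.mk_ker]
    rw [← hker, RingHom.mem_ker, map_sub, sub_eq_zero, map_mul, map_pow]
    rw [hρC] at h
    rw [show π (C (algebraMap R B s)) = C (Ideal.Quotient.mk P (algebraMap R B s)) from MvPolynomial.map_C _ _]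
    exact h
  induction f using MvPolynomial.induction_on with
  | C b =>
    obtain ⟨m, s, a, hs, h⟩ := hb b
    refine ⟨m, s, C a, hs, ?_⟩
    rw [← Ideal.Quotient.eq_zero_iff_mem, map_sub, sub_eq_zero] at h
    rw [hρC, hρC, show π (C b) = C (Ideal.Quotient.mk P b) from MvPolynomial.map_C _ _, ← map_pow, ← map_mul, ← h]
    simp
  | add f g hf hg =>
    obtain ⟨m₁, s₁, a₁, hs₁, h₁⟩ := hf
    obtain ⟨m₂, s₂, a₂, hs₂, h₂⟩ := hg
    have h₁' := congrArg (· ^ e ^ m₂) h₁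
    have h₂' := congrArg (· ^ e ^ m₁) h₂
    simp only [mul_pow, ← pow_mul, ← pow_add] at h₁' h₂'
    rw [Nat.add_comm m₂ m₁] at h₂'
    refine ⟨m₁ + m₂, s₁ ^ e ^ m₂ * s₂ ^ e ^ m₁, C (s₂ ^ e ^ m₁) * a₁ ^ e ^ m₂ + C (s₁ ^ e ^ m₂) * a₂ ^ e ^ m₁, ?_, ?_⟩
    · exact fun h => ((Ideal.IsPrime.mem_or_mem ‹_› h).elim (fun h => hs₁ (Ideal.IsPrime.mem_of_pow_mem ‹_› _ h))
        fun h => hs₂ (Ideal.IsPrime.mem_of_pow_mem ‹_› _ h))
    · simp only [map_add, map_mul, map_pow, add_pow_expChar_pow]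
      rw [← h₁', ← h₂']
      ring
  | mul_X f i hf =>
    obtain ⟨m, s, a, hs, h⟩ := hf
    refine ⟨m, s, a * X i ^ (e ^ m), hs, ?_⟩
    rw [map_mul ρ, ← h, map_mul π, mul_pow, map_pow ρ]
    simp [ρ, π, mul_assoc]

omit [IsDomain B] in
theorem algebraMap_C (r : R) :
    algebraMap (MvPolynomial (Fin n) R) (MvPolynomial (Fin n) B) (C r) = C (algebraMap R B r) := by simp

omit [IsDomain B] in
theorem ker_poly : RingHom.ker (algebraMap (MvPolynomial (Fin n) R) (MvPolynomial (Fin n) B)) =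
    (RingHom.ker (algebraMap R B)).map (C : R →+* MvPolynomial (Fin n) R) :=
  MvPolynomial.ker_map (algebraMap R B)

variable (hB : UB p B) (hrad : Rad p B)
include hB hrad

/-- the unique point over a point of the polynomial ring -/
theorem under_eq_of_le (q : Ideal (MvPolynomial (Fin n) R)) (hqp : q.under R = p) (Q : Ideal (MvPolynomial (Fin n) B))
    [Q.IsPrime] (hQ : Q.under (MvPolynomial (Fin n) R) = q) :
    ∃ (e : ℕ) (P : Ideal B), P.IsPrime ∧ P.under R = p ∧ P.map (C : B →+* MvPolynomial (Fin n) B) ≤ Q ∧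
      ExpChar (B ⧸ P) e ∧ ∀ f : MvPolynomial (Fin n) B, ∃ (m : ℕ) (s : R) (a : MvPolynomial (Fin n) R), s ∉ p ∧
        C (algebraMap R B s) * f ^ (e ^ m) - algebraMap (MvPolynomial (Fin n) R) (MvPolynomial (Fin n) B) a ∈ Q := by
  obtain ⟨e, he⟩ := hrad
  let P := Q.comap (C : B →+* MvPolynomial (Fin n) B)
  haveI : P.IsPrime := Ideal.comap_isPrime _ _
  have hP : P.under R = p := by
    rw [← hqp, ← hQ]
    show (Q.comap _).comap _ = (Q.comap _).comap _
    rw [Ideal.comap_comap, Ideal.comap_comap]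
    congr 1
    exact RingHom.ext fun r => (algebraMap_C r).symm
  haveI : p.IsPrime := hP ▸ inferInstance
  obtain ⟨hexp, hb⟩ := he P inferInstance hP
  refine ⟨e, P, inferInstance, hP, Ideal.map_comap_le, hexp, fun f => ?_⟩
  obtain ⟨m, s, a, hs, h⟩ := exists_pow P hP e hb f
  exact ⟨m, s, a, hs, Ideal.map_comap_le h⟩

theorem ub_poly (q : Ideal (MvPolynomial (Fin n) R)) [q.IsPrime] (hqp : q.under R = p) :
    UB q (MvPolynomial (Fin n) B) := by
  haveI := hB.normal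
  haveI := hB.integral
  haveI : p.IsPrime := hqp ▸ inferInstance
  have hker : RingHom.ker (algebraMap R B) ≤ p := hB.ker_le
  refine ⟨isIntegrallyClosed_mvPolynomial B n, ⟨fun f => ?_⟩, fun Q₁ Q₂ hQ₁ hQ₂ e₁ e₂ => ?_, ?_, fun _ => ?_⟩
  · exact MvPolynomial.isIntegral_iff_isIntegral_coeff.2 fun m => Algebra.IsIntegral.isIntegral _
  · haveI := hQ₁
    haveI := hQ₂
    obtain ⟨e, P₁, hP₁p, hP₁, hle₁, hexp, h₁⟩ := under_eq_of_le hB hrad q hqp Q₁ e₁
    obtain ⟨e', P₂, hP₂p, hP₂, hle₂, hexp', h₂⟩ := under_eq_of_le hB hrad q hqp Q₂ e₂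
    have hPP := hB.unique P₁ P₂ hP₁p hP₂p hP₁ hP₂
    subst hPP
    haveI := hexp
    haveI := hexp'
    obtain ⟨e₀, he₀⟩ := hrad
    obtain ⟨-, hb⟩ := he₀ P₁ hP₁p hP₁
    haveI := (he₀ P₁ hP₁p hP₁).1
    ext f
    obtain ⟨m, s, a, hs, h⟩ := exists_pow P₁ hP₁ e₀ hb f
    have key : ∀ Q : Ideal (MvPolynomial (Fin n) B), Q.IsPrime → Q.under (MvPolynomial (Fin n) R) = q →
        P₁.map (C : B →+* MvPolynomial (Fin n) B) ≤ Q → (f ∈ Q ↔ a ∈ q) := by
      intro Q hQ hQq hle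
      have hCs : C (algebraMap R B s) ∉ Q := fun h' => hs (by
        rw [← hqp, ← hQq]
        show algebraMap _ (MvPolynomial (Fin n) B) (algebraMap R (MvPolynomial (Fin n) R) s) ∈ Q
        rw [MvPolynomial.algebraMap_eq, algebraMap_C]
        exact h')
      have hsub := hle h
      rw [← hQq]
      constructor
      · intro hf
        have h1 : C (algebraMap R B s) * f ^ (e₀ ^ m) ∈ Q :=
          Q.mul_mem_left _ (Q.pow_mem_of_mem hf _ (Nat.pow_pos (expChar_pos (B ⧸ P₁) e₀)))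
        exact (Q.sub_mem_iff_right h1).1 hsub
      · intro ha
        exact hQ.mem_of_pow_mem _ ((hQ.mem_or_mem ((Q.sub_mem_iff_left ha).1 hsub)).resolve_left hCs)
    rw [key Q₁ hQ₁ e₁ hle₁, key Q₂ hQ₂ e₂ hle₂]
  · rw [ker_poly, Ideal.map_le_iff_le_comap]
    exact hker.trans (le_of_eq hqp.symm)
  · have hc : Continuous (PrimeSpectrum.comap (C : R →+* MvPolynomial (Fin n) R)) := PrimeSpectrum.continuous_comap _
    refine Filter.mem_of_superset (hc.continuousAt.preimage_mem_nhds (t := zeroLocus (RingHom.ker (algebraMap R B) : Set R)) ?_) ?_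
    · rw [show PrimeSpectrum.comap (C : R →+* MvPolynomial (Fin n) R) ⟨q, ‹_›⟩ = ⟨p, ‹_›⟩ from
        PrimeSpectrum.ext hqp]
      exact hB.nhd ‹_›
    · intro r hr
      show (RingHom.ker (algebraMap (MvPolynomial (Fin n) R) (MvPolynomial (Fin n) B)) : Set (MvPolynomial (Fin n) R)) ⊆ (r.asIdeal : Set (MvPolynomial (Fin n) R))
      rw [ker_poly]
      exact Ideal.map_le_iff_le_comap.2 hr

theorem rad_poly (q : Ideal (MvPolynomial (Fin n) R)) [q.IsPrime] (hqp : q.under R = p) :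
    Rad q (MvPolynomial (Fin n) B) := by
  obtain ⟨e₀, he₀⟩ := hrad
  refine ⟨e₀, fun Q hQ hQq => ?_⟩
  haveI := hQ
  obtain ⟨e, P, hPp, hP, hle, hexp, -⟩ := under_eq_of_le hB ⟨e₀, he₀⟩ q hqp Q hQq
  haveI := hPp
  obtain ⟨hexp₀, hb⟩ := he₀ P hPp hP
  haveI := hexp₀
  haveI : p.IsPrime := hP ▸ inferInstance
  refine ⟨?_, fun f => ?_⟩
  · let ψ : B ⧸ P →+* MvPolynomial (Fin n) B ⧸ Q :=
      Ideal.quotientMap Q C (Ideal.map_le_iff_le_comap.1 hle)
    refine (ψ.expChar_iff ?_ e₀).1 inferInstance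
    rw [RingHom.injective_iff_ker_eq_bot, eq_bot_iff]
    intro z hz
    obtain ⟨b, rfl⟩ := Ideal.Quotient.mk_surjective z
    rw [Ideal.mem_bot, Ideal.Quotient.eq_zero_iff_mem]
    have hbQ : C b ∈ Q := Ideal.Quotient.eq_zero_iff_mem.1 hz
    obtain ⟨m, s, a, hs, h⟩ := hb b
    have hCa : C (algebraMap R B a) ∈ Q := by
      have h1 : C (algebraMap R B s * b ^ (e₀ ^ m) - algebraMap R B a) ∈ Q := hle (Ideal.mem_map_of_mem _ h)
      rw [map_sub, map_mul, map_pow] at h1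
      exact (Q.sub_mem_iff_right (Q.mul_mem_left _ (Q.pow_mem_of_mem hbQ _ (Nat.pow_pos (expChar_pos (B ⧸ P) e₀))))).1 h1
    have hap : a ∈ p := by
      rw [← hqp, ← hQq]
      show algebraMap _ (MvPolynomial (Fin n) B) (algebraMap R (MvPolynomial (Fin n) R) a) ∈ Q
      rw [MvPolynomial.algebraMap_eq, algebraMap_C]
      exact hCa
    have h2 : algebraMap R B s * b ^ (e₀ ^ m) ∈ P :=
      (P.sub_mem_iff_left (by rw [← hP] at hap; exact hap)).1 h
    exact hPp.mem_of_pow_mem _ ((hPp.mem_or_mem h2).resolve_left fun h' => hs (hP ▸ h'))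
  · obtain ⟨m, s, a, hs, h⟩ := exists_pow P hP e₀ hb f
    refine ⟨m, C s, a, fun h' => hs (hqp ▸ h'), ?_⟩
    rw [algebraMap_C]
    exact hle h

end Groth.Agent.Unibr4
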