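import Groth.Agent.Lib.Unibr4.Lifts
import Groth.Agent.Lib.Unibr4.GoDown

/-!
# Criteria of universal openness over geometrically unibranch points
-/

universe u

open CategoryTheory Limits AlgebraicGeometry Topology Groth.Agent.FibDim14

set_option backward.isDefEq.respectTransparency.types false

namespace Groth.Agent.Unibr4

variable {X Y : Scheme.{u}}

/-- Below a unibranch point there is a single maximal point. -/
theorem max_unique {y : Y} (hnoe : IsLocallyNoetherian Y ∨ IrreducibleSpace Y)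
    (hu : CAlg2.IsUnibranch (Y.presheaf.stalk y)) {g g' : Y} (hg : g ⤳ y) (hg' : g' ⤳ y)
    (hmg : ∀ z, z ⤳ g → z = g) (hmg' : ∀ z, z ⤳ g' → z = g') : g = g' := by
  obtain ⟨V, hV, hyV, -⟩ := exists_isAffineOpen_mem_and_subset (U := (⊤ : Y.Opens)) (x := y) trivial
  obtain ⟨B, _, _, _, -, -, hker⟩ := exists_data hV y hyV hnoe hu
  have hgV : g ∈ V := hg.mem_open V.2 hyV
  have hgV' : g' ∈ V := hg'.mem_open V.2 hyV
  have h : hV.primeIdealOf ⟨g, hgV⟩ = hV.primeIdealOf ⟨g', hgV'⟩ :=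
    PrimeSpectrum.ext ((hker g hg hmg hgV).symm.trans (hker g' hg' hmg' hgV'))
  have h2 := congrArg hV.fromSpec h
  rw [hV.fromSpec_primeIdealOf, hV.fromSpec_primeIdealOf] at h2
  exact h2

variable [IsLocallyNoetherian Y] (f : X ⟶ Y) [LocallyOfFiniteType f]

/-- When generizations lift at `x`, there is a component through `x` dominating with generic fibre of
dimension at least the residual degree of `x`. -/
theorem exists_component_of_liftsAt {x : X} (h : EGA43Top.LiftsAt f x) {η : Y} (hη : η ⤳ f x)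
    (hmax : ∀ z, z ⤳ η → z = η) :
    ∃ t, t ⤳ x ∧ (∀ z, z ⤳ t → z = t) ∧ f t = η ∧ rd f x ≤ rd f t := by
  obtain ⟨x₁, hx₁, hfx₁, hrd⟩ := exists_lift_rd_ge f x h hη
  obtain ⟨t, ht, htmax⟩ := exists_max x₁
  have hft : f t = η := hmax _ (hfx₁ ▸ ht.map f.continuous)
  refine ⟨t, ht.trans hx₁, htmax, hft, hrd.trans ?_⟩
  rcases eq_or_ne t x₁ with rfl | hne
  · exact le_rfl
  · exact (rd_lt_of_specializes f ht hne (hft.trans hfx₁.symm)).le

/-- EGA IV 14.4.1 at a point of a fibre. -/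
theorem isUnivOpenAt_of_isOpenAt (x : X) (hy : CAlg2.IsGeomUnibranch (Y.presheaf.stalk (f x)))
    (h : ∀ z, z ⤳ x → f z = f x → IsMaxFib f z → EGA43Top.LiftsAt f z) : EGA43.IsUnivOpenAt f x := by
  obtain ⟨z, hzx, hfz, hmaxz, hd⟩ := FibGen4.exists_isMaxFib f x
  obtain ⟨η, hη, hmax⟩ := exists_max (f z)
  obtain ⟨t, htz, -, hft, hrd⟩ := exists_component_of_liftsAt f (h z hzx hfz hmaxz) hη hmax
  refine isUnivOpenAt f x t (Or.inl inferInstance) hy (htz.trans hzx) (hft.symm ▸ hmax) ?_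
  rw [← hd, FibGen4.fibreDimAt_eq_rd_of_isMaxFib f hmaxz]
  exact_mod_cast hrd

theorem isOpenAt_of_isUnivOpenAt {A B : Scheme.{u}} {g : A ⟶ B} {a : A} (h : EGA43.IsUnivOpenAt g a) :
    EGA43.IsOpenAt g.base a := by
  let i : A ⟶ pullback g (𝟙 B) := pullback.lift (𝟙 A) g (by simp)
  intro U hU
  have h1 := h B (𝟙 B) (i a) (by rw [← Scheme.Hom.comp_apply, pullback.lift_fst]; rfl)
    ((pullback.fst g (𝟙 B)).base ⁻¹' U)
    ((pullback.fst g (𝟙 B)).continuous.continuousAt.preimage_mem_nhds (by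
      rw [← Scheme.Hom.comp_apply, pullback.lift_fst]; exact hU))
  rw [← Scheme.Hom.comp_apply, pullback.lift_snd] at h1
  refine Filter.mem_of_superset h1 ?_
  rintro _ ⟨z, hz, rfl⟩
  refine ⟨pullback.fst g (𝟙 B) z, hz, ?_⟩
  rw [← Scheme.Hom.comp_apply, pullback.condition, Category.comp_id]

end Groth.Agent.Unibr4
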