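import Groth.Agent.Lib.Unibr4.Basic

/-!
# Openness over unibranch points: quasi-finite and integral algebras
-/

universe u v w

open Topology TensorProduct PrimeSpectrum

namespace Groth.Agent.Unibr4

variable {R : Type u} [CommRing R] {p : Ideal R} {B : Type u} [CommRing B] [IsDomain B] [Algebra R B]
  {S : Type u} [CommRing S] [Algebra R S]

/-- Reduction to open sets of the domain over the normalisation. -/
theorem isOpenAt_of_domain (hB : UB p B) (Q : PrimeSpectrum S) (hQ : Q.asIdeal.under R = p)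
    (M : Ideal (B ⊗[R] S)) [M.IsPrime] (Q₁ : PrimeSpectrum ((B ⊗[R] S) ⧸ M))
    (hQ₁ : Q₁.asIdeal.comap ((Ideal.Quotient.mk M).comp Algebra.TensorProduct.includeRight.toRingHom) = Q.asIdeal)
    (h : ∀ g : (B ⊗[R] S) ⧸ M, g ∉ Q₁.asIdeal →
      PrimeSpectrum.comap (algebraMap B ((B ⊗[R] S) ⧸ M)) '' (basicOpen g : Set _) ∈
        𝓝 (PrimeSpectrum.comap (algebraMap B ((B ⊗[R] S) ⧸ M)) Q₁)) :
    EGA43.IsOpenAt (PrimeSpectrum.comap (algebraMap R S)) Q := by
  intro U hU
  obtain ⟨_, ⟨g, rfl⟩, hgQ, hgU⟩ := PrimeSpectrum.isTopologicalBasis_basic_opens.mem_nhds_iff.1 hU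
  let ι : S →+* (B ⊗[R] S) ⧸ M := (Ideal.Quotient.mk M).comp Algebra.TensorProduct.includeRight.toRingHom
  have hg : ι g ∉ Q₁.asIdeal := fun h => hgQ (hQ₁ ▸ h)
  let P := PrimeSpectrum.comap (algebraMap B ((B ⊗[R] S) ⧸ M)) Q₁
  have hcomp : ι.comp (algebraMap R S) = algebraMap R ((B ⊗[R] S) ⧸ M) := by
    refine RingHom.ext fun r => ?_
    show Ideal.Quotient.mk M ((1 : B) ⊗ₜ[R] algebraMap R S r) = _
    rw [← Algebra.TensorProduct.tmul_one_eq_one_tmul]
    rfl
  have hP : P.asIdeal.under R = p := by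
    show (Q₁.asIdeal.comap (algebraMap B ((B ⊗[R] S) ⧸ M))).comap (algebraMap R B) = p
    rw [Ideal.comap_comap, ← IsScalarTower.algebraMap_eq, ← hcomp, ← Ideal.comap_comap, hQ₁]
    exact hQ
  haveI : p.IsPrime := hQ ▸ inferInstance
  have h1 := exists_nhd_image hB hP (h (ι g) hg)
  rw [show (⟨p, ‹_›⟩ : PrimeSpectrum R) = PrimeSpectrum.comap (algebraMap R S) Q from PrimeSpectrum.ext hQ.symm] at h1
  refine Filter.mem_of_superset h1 ?_
  rintro _ ⟨_, ⟨N, hN, rfl⟩, rfl⟩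
  refine ⟨PrimeSpectrum.comap ι N, hgU hN, ?_⟩
  rw [← PrimeSpectrum.comap_comp_apply, ← PrimeSpectrum.comap_comp_apply, hcomp, ← IsScalarTower.algebraMap_eq]

/-- the setup: the domain with its point over `Q` -/
theorem exists_point (hB : UB p B) (Q m : Ideal S) [Q.IsPrime] [m.IsPrime] (hmQ : m ≤ Q) (hQ : Q.under R = p)
    (hm : m.under R ≤ RingHom.ker (algebraMap R B)) :
    ∃ (M : Ideal (B ⊗[R] S)) (_ : M.IsPrime) (Q₁ : PrimeSpectrum ((B ⊗[R] S) ⧸ M)),
      Function.Injective (algebraMap B ((B ⊗[R] S) ⧸ M)) ∧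
        Q₁.asIdeal.comap ((Ideal.Quotient.mk M).comp Algebra.TensorProduct.includeRight.toRingHom) = Q := by
  obtain ⟨M, hM, Q', hQ', hMQ', hMB, hQ'Q⟩ := exists_domain hB Q m hmQ hQ hm
  haveI : (Q'.map (Ideal.Quotient.mk M)).IsPrime :=
    Ideal.map_isPrime_of_surjective Ideal.Quotient.mk_surjective (by rwa [Ideal.mk_ker])
  refine ⟨M, hM, ⟨_, this⟩, ?_, ?_⟩
  · rw [RingHom.injective_iff_ker_eq_bot, IsScalarTower.algebraMap_eq B (B ⊗[R] S) ((B ⊗[R] S) ⧸ M),
      Ideal.Quotient.algebraMap_eq, ← RingHom.comap_ker, Ideal.mk_ker, hMB]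
  · rw [← Ideal.comap_comap, Ideal.comap_map_of_surjective' _ Ideal.Quotient.mk_surjective, Ideal.mk_ker,
      sup_eq_left.2 hMQ', hQ'Q]

/-- EGA IV 14.4: an integral map is open at a point over a unibranch point. -/
theorem isOpenAt_of_integral [Algebra.IsIntegral R S] (hB : UB p B) (Q m : Ideal S) [Q.IsPrime] [m.IsPrime]
    (hmQ : m ≤ Q) (hQ : Q.under R = p) (hm : m.under R ≤ RingHom.ker (algebraMap R B)) :
    EGA43.IsOpenAt (PrimeSpectrum.comap (algebraMap R S)) ⟨Q, ‹_›⟩ := by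
  obtain ⟨M, hM, Q₁, hinj, hQ₁⟩ := exists_point hB Q m hmQ hQ hm
  haveI := hB.normal
  haveI : FaithfulSMul B ((B ⊗[R] S) ⧸ M) := (faithfulSMul_iff_algebraMap_injective _ _).2 hinj
  haveI : Algebra.IsIntegral B ((B ⊗[R] S) ⧸ M) :=
    Algebra.IsIntegral.of_surjective (Ideal.Quotient.mkₐ B M) Ideal.Quotient.mk_surjective
  refine isOpenAt_of_domain hB ⟨Q, ‹_›⟩ hQ M Q₁ hQ₁ fun g hg => ?_
  exact (isOpenMap_comap_of_integral (B := B)).image_mem_nhds ((basicOpen g).isOpen.mem_nhds hg)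

/-- EGA IV 14.4: a quasi-finite map is open at a point over a unibranch point. -/
theorem isOpenAt_of_quasiFiniteAt [Algebra.FiniteType R S] (hB : UB p B) (Q m : Ideal S) [Q.IsPrime] [m.IsPrime]
    [Algebra.QuasiFiniteAt R Q]
    (hmQ : m ≤ Q) (hQ : Q.under R = p) (hm : m.under R ≤ RingHom.ker (algebraMap R B)) :
    EGA43.IsOpenAt (PrimeSpectrum.comap (algebraMap R S)) ⟨Q, ‹_›⟩ := by
  obtain ⟨M, hM, Q₁, hinj, hQ₁⟩ := exists_point hB Q m hmQ hQ hm
  haveI := hB.normal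
  let C := (B ⊗[R] S) ⧸ M
  haveI : Algebra.FiniteType B C :=
    Algebra.FiniteType.of_surjective (Ideal.Quotient.mkₐ B M) Ideal.Quotient.mk_surjective
  have hQ' : Q = (Q₁.asIdeal.comap (Ideal.Quotient.mk M)).comap Algebra.TensorProduct.includeRight.toRingHom := by
    rw [Ideal.comap_comap]; exact hQ₁.symm
  haveI : Algebra.QuasiFiniteAt B (Q₁.asIdeal.comap (Ideal.Quotient.mk M)) :=
    Algebra.QuasiFiniteAt.baseChange (R := R) (S := S) Q _ hQ'
  haveI : Algebra.QuasiFiniteAt B Q₁.asIdeal :=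
    Algebra.QuasiFiniteAt.of_surjectiveOnStalks (Q₁.asIdeal.comap (Ideal.Quotient.mk M)) (Ideal.Quotient.mkₐ B M)
      (RingHom.surjectiveOnStalks_of_surjective Ideal.Quotient.mk_surjective) _ rfl
  obtain ⟨C', hfin, r, hr, hbij⟩ :=
    Algebra.QuasiFiniteAt.exists_fg_and_exists_notMem_and_awayMap_bijective (R := B) Q₁.asIdeal
  haveI : Module.Finite B C' := ⟨(Submodule.fg_top _).mpr hfin⟩
  haveI : FaithfulSMul B C' := (faithfulSMul_iff_algebraMap_injective _ _).2
    fun a b h => hinj (congrArg Subtype.val h)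
  haveI : Algebra.IsIntegral B C' := Algebra.IsIntegral.of_finite B C'
  refine isOpenAt_of_domain hB ⟨Q, ‹_›⟩ hQ M Q₁ hQ₁ fun g hg => ?_
  obtain ⟨n, b, hb⟩ := Hens.exists_pow_mul_mem_of_bijective_awayMap C'.val.toRingHom r hbij.2 g
  haveI : Q₁.asIdeal.IsPrime := Q₁.2
  have hb' : (b : C) = r.1 ^ n * g := hb.symm
  let N₁ : PrimeSpectrum C' := PrimeSpectrum.comap C'.val.toRingHom Q₁
  have hN₁ : N₁ ∈ basicOpen (r * b) := by
    intro h
    have h' : r.1 * (b : C) ∈ Q₁.asIdeal := h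
    rw [hb', ← mul_assoc, ← pow_succ'] at h'
    rcases Q₁.2.mem_or_mem h' with h' | h'
    · exact hr (Q₁.2.mem_of_pow_mem _ h')
    · exact hg h'
  refine Filter.mem_of_superset
    ((isOpenMap_comap_of_integral (B := B) (C := C')).image_mem_nhds ((basicOpen _).isOpen.mem_nhds hN₁)) ?_
  rintro _ ⟨N, hN, rfl⟩
  haveI : N.asIdeal.IsPrime := N.2
  let e := RingEquiv.ofBijective (Localization.awayMap C'.val.toRingHom r) hbij
  have hu : IsUnit (algebraMap C' N.asIdeal.ResidueField r) := by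
    refine isUnit_iff_ne_zero.2 fun h => hN (N.asIdeal.mul_mem_right _ ?_)
    rwa [Ideal.algebraMap_residueField_eq_zero] at h
  let ψ₀ : Localization.Away r →+* N.asIdeal.ResidueField := IsLocalization.Away.lift r hu
  let ψ : C →+* N.asIdeal.ResidueField :=
    (ψ₀.comp e.symm.toRingHom).comp (algebraMap C (Localization.Away (C'.val.toRingHom r)))
  have hψ : ∀ c : C', ψ c = algebraMap C' N.asIdeal.ResidueField c := fun c => by
    have h1 : e.symm (algebraMap C _ (C'.val.toRingHom c)) = algebraMap C' (Localization.Away r) c := by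
      apply e.injective
      rw [RingEquiv.apply_symm_apply]
      show _ = (Localization.awayMap C'.val.toRingHom r) (algebraMap C' (Localization.Away r) c)
      rw [Localization.awayMap, IsLocalization.Away.map, IsLocalization.map_eq]
    show ψ₀ (e.symm (algebraMap C _ (C'.val.toRingHom c))) = _
    rw [h1, IsLocalization.Away.lift_eq]
  haveI : (RingHom.ker ψ).IsPrime := RingHom.ker_isPrime _
  refine ⟨⟨RingHom.ker ψ, this⟩, fun h => hN (N.asIdeal.mul_mem_left _ ?_), ?_⟩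
  · have h1 : ψ (b : C) = 0 := by
      rw [hb', map_mul, show ψ g = 0 from h, mul_zero]
    rw [hψ, Ideal.algebraMap_residueField_eq_zero] at h1
    exact h1
  · refine PrimeSpectrum.ext ?_
    ext x
    show ψ (algebraMap B C x) = 0 ↔ algebraMap B C' x ∈ N.asIdeal
    rw [show algebraMap B C x = ((algebraMap B C' x : C') : C) from rfl, hψ, Ideal.algebraMap_residueField_eq_zero]

end Groth.Agent.Unibr4
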