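import Groth.Agent.Lib.Unibr4.Open
import Mathlib.RingTheory.TensorProduct.Nontrivial
import Mathlib.RingTheory.LocalRing.ResidueField.Ideal

/-!
# Openness over unibranch points: the core
-/

universe u v w

open Topology TensorProduct PrimeSpectrum

namespace Groth.Agent.Unibr4

/-- Two points over the same point of the base have a common field valued point. -/
theorem exists_common_field {R : Type u} {S : Type v} {T : Type w} [CommRing R] [CommRing S] [CommRing T]
    [Algebra R S] [Algebra R T] (m : Ideal S) [m.IsPrime] (n : Ideal T) [n.IsPrime]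
    (h : m.under R = n.under R) :
    ∃ (Ω : Type (max v w)) (_ : Field Ω) (a : S →+* Ω) (b : T →+* Ω),
      RingHom.ker a = m ∧ RingHom.ker b = n ∧ a.comp (algebraMap R S) = b.comp (algebraMap R T) := by
  let k := (m.under R).ResidueField
  let fm : k →+* m.ResidueField := Ideal.ResidueField.map (m.under R) m (algebraMap R S) rfl
  let fn : k →+* n.ResidueField := Ideal.ResidueField.map (m.under R) n (algebraMap R T) h
  letI := fm.toAlgebra
  letI := fn.toAlgebra
  haveI : Nontrivial (m.ResidueField ⊗[k] n.ResidueField) :=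
    Algebra.TensorProduct.nontrivial_of_algebraMap_injective_of_isDomain k _ _ fm.injective fn.injective
  obtain ⟨M, hM⟩ := Ideal.exists_maximal (m.ResidueField ⊗[k] n.ResidueField)
  letI := Ideal.Quotient.field M
  let a' : m.ResidueField →+* (m.ResidueField ⊗[k] n.ResidueField) ⧸ M :=
    (Ideal.Quotient.mk M).comp Algebra.TensorProduct.includeLeftRingHom
  let b' : n.ResidueField →+* (m.ResidueField ⊗[k] n.ResidueField) ⧸ M :=
    (Ideal.Quotient.mk M).comp Algebra.TensorProduct.includeRight.toRingHom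
  refine ⟨_, inferInstance, a'.comp (algebraMap S m.ResidueField), b'.comp (algebraMap T n.ResidueField), ?_, ?_, ?_⟩
  · rw [RingHom.ker_comp_of_injective _ a'.injective, Ideal.ker_algebraMap_residueField]
  · rw [RingHom.ker_comp_of_injective _ b'.injective, Ideal.ker_algebraMap_residueField]
  · refine RingHom.ext fun r => ?_
    have hm' : algebraMap S m.ResidueField (algebraMap R S r) = fm (algebraMap R k r) := by
      rw [← IsScalarTower.algebraMap_apply]
      exact (DFunLike.congr_fun (Ideal.ResidueField.mapₐ (m.under R) m (Algebra.ofId R S) rfl).comp_algebraMap r).symm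
    have hn' : algebraMap T n.ResidueField (algebraMap R T r) = fn (algebraMap R k r) := by
      rw [← IsScalarTower.algebraMap_apply]
      exact (DFunLike.congr_fun (Ideal.ResidueField.mapₐ (m.under R) n (Algebra.ofId R T) h).comp_algebraMap r).symm
    simp only [RingHom.comp_apply, hm', hn', a', b']
    refine congrArg _ ?_
    exact Algebra.TensorProduct.tmul_one_eq_one_tmul (algebraMap R k r)

variable {R : Type u} [CommRing R] (p : Ideal R) (B : Type u) [CommRing B] [IsDomain B] [Algebra R B]

/-- `B` is a normal domain, integral over `R`, with exactly one point over `p` and the image of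
its spectrum is a neighbourhood of `p`. -/
structure UB : Prop where
  normal : IsIntegrallyClosed B
  integral : Algebra.IsIntegral R B
  unique : ∀ P₁ P₂ : Ideal B, P₁.IsPrime → P₂.IsPrime → P₁.under R = p → P₂.under R = p → P₁ = P₂
  ker_le : RingHom.ker (algebraMap R B) ≤ p
  nhd : ∀ hp : p.IsPrime, zeroLocus (RingHom.ker (algebraMap R B) : Set R) ∈ 𝓝 (⟨p, hp⟩ : PrimeSpectrum R)

variable {p B}

theorem exists_nhd_image [p.IsPrime] (hB : UB p B) {P : PrimeSpectrum B} (hP : P.asIdeal.under R = p)
    {O : Set (PrimeSpectrum B)} (hO : O ∈ 𝓝 P) :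
    PrimeSpectrum.comap (algebraMap R B) '' O ∈ 𝓝 (⟨p, ‹_›⟩ : PrimeSpectrum R) := by
  haveI := hB.integral
  obtain ⟨U, hUO, hU, hPU⟩ := mem_nhds_iff.1 hO
  have hcl : IsClosed (PrimeSpectrum.comap (algebraMap R B) '' Uᶜ) :=
    PrimeSpectrum.isClosedMap_comap_of_isIntegral (algebraMap R B) (algebraMap_isIntegral_iff.mpr hB.integral) _ hU.isClosed_compl
  refine Filter.mem_of_superset (Filter.inter_mem (hcl.isOpen_compl.mem_nhds ?_) (hB.nhd ‹_›)) ?_
  · rintro ⟨Q, hQ, hQp⟩
    refine hQ ?_
    have : Q = P := PrimeSpectrum.ext (hB.unique _ _ Q.2 P.2 (congrArg PrimeSpectrum.asIdeal hQp) hP)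
    rwa [this]
  · rintro r ⟨hr1, hr2⟩
    obtain ⟨Q, hQ, hQr⟩ := Ideal.exists_ideal_over_prime_of_isIntegral_of_isDomain (S := B) r.asIdeal hr2
    exact ⟨⟨Q, hQ⟩, hUO (by_contra fun h => hr1 ⟨⟨Q, hQ⟩, h, PrimeSpectrum.ext hQr⟩), PrimeSpectrum.ext hQr⟩

variable {S : Type u} [CommRing S] [Algebra R S]

/-- The tensor step: a domain over `B` and `S` containing a point over the given one. -/
theorem exists_domain (hB : UB p B) (Q m : Ideal S) [Q.IsPrime] [m.IsPrime] (hmQ : m ≤ Q)
    (hQ : Q.under R = p) (hm : m.under R ≤ RingHom.ker (algebraMap R B)) :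
    ∃ (M : Ideal (B ⊗[R] S)) (_ : M.IsPrime) (Q' : Ideal (B ⊗[R] S)) (_ : Q'.IsPrime), M ≤ Q' ∧
      M.comap (algebraMap B (B ⊗[R] S)) = ⊥ ∧
      Q'.comap Algebra.TensorProduct.includeRight.toRingHom = Q := by
  haveI := hB.integral
  haveI : p.IsPrime := hQ ▸ inferInstance
  have hker : RingHom.ker (algebraMap R B) ≤ m.under R := by
    have hnhd := mem_nhds_iff.1 (hB.nhd ‹_›)
    obtain ⟨U, hU, hUo, hpU⟩ := hnhd
    have : (⟨m.under R, inferInstance⟩ : PrimeSpectrum R) ∈ U := by
      refine ((PrimeSpectrum.le_iff_specializes _ _).1 ?_).mem_open hUo hpU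
      exact hQ ▸ Ideal.comap_mono hmQ
    exact hU this
  obtain ⟨Ω, _, a, b, ha, hb, hab⟩ := exists_common_field (R := R) (⊥ : Ideal B) m
    (le_antisymm hker hm)
  letI := (a.comp (algebraMap R B)).toAlgebra
  let a' : B →ₐ[R] Ω := { a with commutes' := fun _ => rfl }
  let b' : S →ₐ[R] Ω := { b with commutes' := fun r => (DFunLike.congr_fun hab r).symm }
  let ψ : B ⊗[R] S →ₐ[R] Ω := Algebra.TensorProduct.lift a' b' fun _ _ => .all _ _
  let M := RingHom.ker ψ
  haveI : M.IsPrime := RingHom.ker_isPrime _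
  have hMS : M.comap Algebra.TensorProduct.includeRight.toRingHom = m := by
    rw [← hb]
    ext s
    simp [M, ψ, b']
  have hMB : M.comap (algebraMap B (B ⊗[R] S)) = ⊥ := by
    rw [← ha]
    ext x
    simp [M, ψ, a', Algebra.TensorProduct.algebraMap_apply]
  let f : S →+* B ⊗[R] S := Algebra.TensorProduct.includeRight.toRingHom
  have hf : f.IsIntegral := by
    have h1 : (algebraMap S (S ⊗[R] B)).IsIntegral := algebraMap_isIntegral_iff.mpr inferInstance
    have h2 : f = (Algebra.TensorProduct.comm R S B).toAlgHom.toRingHom.comp (algebraMap S (S ⊗[R] B)) :=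
      RingHom.ext fun s => by simp [f, Algebra.TensorProduct.algebraMap_apply]
    rw [h2]
    exact RingHom.IsIntegral.trans _ _ h1 (RingHom.isIntegral_of_surjective _ (AlgEquiv.surjective _))
  letI := f.toAlgebra
  haveI : Algebra.IsIntegral S (B ⊗[R] S) := ⟨hf⟩
  obtain ⟨Q', hMQ', hQ', hQ'Q⟩ := Ideal.exists_ideal_over_prime_of_isIntegral (S := B ⊗[R] S) Q M (hMS.le.trans hmQ)
  exact ⟨M, inferInstance, Q', hQ', hMQ', hMB, hQ'Q⟩

end Groth.Agent.Unibr4
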