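import Groth.Agent.Lib.Unibr4.Basic
import Groth.Prelude.Def_CAlg2
import Mathlib.RingTheory.Localization.Integral
import Mathlib.RingTheory.Ideal.MinimalPrime.Noetherian
import Mathlib.Algebra.CharP.Algebra

/-!
# The normalisation of a (geometrically) unibranch local ring
-/

universe u

open Topology PrimeSpectrum

namespace Groth.Agent.Unibr4

section GU

variable {R : Type u} [CommRing R] (p : Ideal R) (B : Type u) [CommRing B] [Algebra R B]

/-- the residue extension at the point over `p` is purely inseparable -/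
def Rad : Prop := ∃ e : ℕ, ∀ P : Ideal B, P.IsPrime → P.under R = p → ExpChar (B ⧸ P) e ∧
  ∀ b : B, ∃ (n : ℕ) (s a : R), s ∉ p ∧ algebraMap R B s * b ^ (e ^ n) - algebraMap R B a ∈ P

end GU

variable (R : Type u) [CommRing R] (A : Type u) [CommRing A] [Algebra R A]

/-- the fraction field of the reduction of `A` -/
abbrev KF : Type u := FractionRing (CAlg2.red A)

/-- the normalisation of the image of `R` in it -/
abbrev NB : Type u := integralClosure R (KF A)

variable {R A} (p : Ideal R) [p.IsPrime] [IsLocalization.AtPrime A p]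

theorem mem_ker_iff (x : R) : algebraMap R (CAlg2.red A) x = 0 ↔ ∃ (n : ℕ) (s : R), s ∉ p ∧ s * x ^ n = 0 := by
  rw [IsScalarTower.algebraMap_apply R A (CAlg2.red A), Ideal.Quotient.algebraMap_eq,
    Ideal.Quotient.eq_zero_iff_mem, mem_nilradical]
  constructor
  · rintro ⟨n, hn⟩
    rw [← map_pow, IsLocalization.map_eq_zero_iff p.primeCompl] at hn
    obtain ⟨⟨s, hs⟩, h⟩ := hn
    exact ⟨n, s, hs, h⟩
  · rintro ⟨n, s, hs, h⟩
    refine ⟨n, ?_⟩
    rw [← map_pow, IsLocalization.map_eq_zero_iff p.primeCompl]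
    exact ⟨⟨s, hs⟩, h⟩

theorem ker_le_of_le {r : Ideal R} [r.IsPrime] (hr : r ≤ p) :
    RingHom.ker (algebraMap R (CAlg2.red A)) ≤ r := by
  intro x hx
  obtain ⟨n, s, hs, h⟩ := (mem_ker_iff p x).1 hx
  have : s * x ^ n ∈ r := h ▸ r.zero_mem
  exact (Ideal.IsPrime.mem_or_mem ‹_› this).elim (fun h' => absurd (hr h') hs)
    fun h' => Ideal.IsPrime.mem_of_pow_mem ‹_› n h'

variable [IsDomain (CAlg2.red A)]

theorem ker_NB : RingHom.ker (algebraMap R (NB R A)) = RingHom.ker (algebraMap R (CAlg2.red A)) := by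
  ext x
  rw [RingHom.mem_ker, RingHom.mem_ker, ← Subtype.coe_injective.eq_iff]
  show algebraMap R (KF A) x = 0 ↔ _
  rw [IsScalarTower.algebraMap_apply R (CAlg2.red A) (KF A)]
  exact ⟨fun h => IsFractionRing.injective (CAlg2.red A) (KF A) (h.trans (map_zero _).symm), fun h => by rw [h, map_zero]⟩

include p in
theorem exists_frac (z : CAlg2.red A) :
    ∃ r s, s ∉ p ∧ algebraMap R (CAlg2.red A) s * z = algebraMap R (CAlg2.red A) r := by
  obtain ⟨a, rfl⟩ := Ideal.Quotient.mk_surjective z
  obtain ⟨⟨r, s, hs⟩, h⟩ := IsLocalization.surj p.primeCompl a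
  refine ⟨r, s, hs, ?_⟩
  rw [IsScalarTower.algebraMap_apply R A (CAlg2.red A) s, IsScalarTower.algebraMap_apply R A (CAlg2.red A) r,
    Ideal.Quotient.algebraMap_eq, ← map_mul, mul_comm]
  exact congrArg _ h

include p in
theorem algebraMap_ne_zero {s : R} (hs : s ∉ p) : algebraMap R (KF A) s ≠ 0 := by
  rw [IsScalarTower.algebraMap_apply R (CAlg2.red A) (KF A)]
  refine fun h => hs ?_
  exact ker_le_of_le p le_rfl (IsFractionRing.injective (CAlg2.red A) (KF A) (h.trans (map_zero _).symm))

include p in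
theorem isFractionRing_NB : IsFractionRing (NB R A) (KF A) := by
  refine IsFractionRing.of_field _ _ fun z => ?_
  obtain ⟨a, b, hb, rfl⟩ := IsFractionRing.div_surjective (A := CAlg2.red A) z
  obtain ⟨r₁, s₁, hs₁, h₁⟩ := exists_frac p a
  obtain ⟨r₂, s₂, hs₂, h₂⟩ := exists_frac p b
  refine ⟨algebraMap R _ (r₁ * s₂), algebraMap R _ (s₁ * r₂), ?_⟩
  rw [← IsScalarTower.algebraMap_apply, ← IsScalarTower.algebraMap_apply, map_mul, map_mul]
  simp only [IsScalarTower.algebraMap_apply R (CAlg2.red A) (KF A), ← h₁, ← h₂, map_mul]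
  have e₁ := algebraMap_ne_zero (A := A) p hs₁
  have e₂ := algebraMap_ne_zero (A := A) p hs₂
  rw [IsScalarTower.algebraMap_apply R (CAlg2.red A) (KF A)] at e₁ e₂
  have e₃ : algebraMap (CAlg2.red A) (KF A) b ≠ 0 :=
    IsFractionRing.to_map_ne_zero_of_mem_nonZeroDivisors hb
  field_simp

include p in
theorem isIntegrallyClosed_NB : IsIntegrallyClosed (NB R A) := by
  haveI := isFractionRing_NB (A := A) p
  exact (IsIntegrallyClosed.integralClosure_eq_bot_iff (KF A)).mp integralClosure_idem

/-- inclusion in the normalisation of the local ring -/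
noncomputable def incl : NB R A →+* CAlg2.normRed A :=
  RingHom.codRestrict (Subalgebra.val (integralClosure R (KF A))).toRingHom (integralClosure (CAlg2.red A) (KF A))
    fun b => IsIntegral.tower_top b.2

theorem coe_incl (b : NB R A) : ((incl b : CAlg2.normRed A) : KF A) = (b : KF A) := rfl

theorem isLocalization_incl :
    letI := (incl : NB R A →+* CAlg2.normRed A).toAlgebra
    IsLocalization (p.primeCompl.map (algebraMap R (NB R A))) (CAlg2.normRed A) := by
  letI := (incl : NB R A →+* CAlg2.normRed A).toAlgebra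
  refine ⟨fun y => ?_, fun c => ?_, fun {x y} h => ?_⟩
  · obtain ⟨_, s, hs, rfl⟩ := y
    have : algebraMap (NB R A) (CAlg2.normRed A) (algebraMap R (NB R A) s) =
        (algebraMap (CAlg2.red A) (CAlg2.normRed A)) (Ideal.Quotient.mk _ (algebraMap R A s)) :=
      Subtype.ext (IsScalarTower.algebraMap_apply R (CAlg2.red A) (KF A) s)
    show IsUnit (algebraMap (NB R A) (CAlg2.normRed A) (algebraMap R (NB R A) s))
    rw [this]
    exact ((IsLocalization.map_units A (⟨s, hs⟩ : p.primeCompl)).map _).map _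
  · haveI : Algebra.IsIntegral A (CAlg2.red A) := Algebra.IsIntegral.of_surjective (Algebra.ofId A (CAlg2.red A)) Ideal.Quotient.mk_surjective
    have hc : IsIntegral A (c : KF A) := isIntegral_trans (R := A) (A := CAlg2.red A) _ c.2
    obtain ⟨⟨s, hs⟩, h⟩ := IsIntegral.exists_multiple_integral_of_isLocalization p.primeCompl (c : KF A) hc
    refine ⟨⟨⟨_, h⟩, ⟨algebraMap R (NB R A) s, s, hs, rfl⟩⟩, Subtype.ext ?_⟩
    show (c : KF A) * algebraMap R (KF A) s = s • (c : KF A)
    rw [Algebra.smul_def, mul_comm]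
  · exact ⟨1, by rw [show x = y from Subtype.ext (congrArg (fun z : CAlg2.normRed A => (z : KF A)) h)]⟩

variable [IsLocalRing A]

theorem exists_point_NB (hA : IsLocalRing (CAlg2.normRed A)) (P : Ideal (NB R A)) [P.IsPrime]
    (hP : P.under R = p) :
    P = (IsLocalRing.maximalIdeal (CAlg2.normRed A)).comap incl := by
  letI := (incl : NB R A →+* CAlg2.normRed A).toAlgebra
  haveI := isLocalization_incl (A := A) p
  set M := p.primeCompl.map (algebraMap R (NB R A))
  have hdis : Disjoint (M : Set (NB R A)) P := by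
    rw [Set.disjoint_left]
    rintro _ ⟨s, hs, rfl⟩ h
    exact hs (hP ▸ h)
  have hprime := IsLocalization.isPrime_of_isPrime_disjoint M (CAlg2.normRed A) P ‹_› hdis
  have hc := IsLocalization.under_map_of_isPrime_disjoint M (CAlg2.normRed A) ‹_› hdis
  set J := P.map (algebraMap (NB R A) (CAlg2.normRed A))
  haveI := hprime
  have hJmax : J.IsMaximal := by
    refine Ideal.isMaximal_of_isIntegral_of_isMaximal_comap (R := CAlg2.red A) J ?_
    haveI hred : IsLocalRing (CAlg2.red A) :=
      IsLocalRing.of_surjective' (Ideal.Quotient.mk (nilradical A)) Ideal.Quotient.mk_surjective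
    have : J.comap (algebraMap (CAlg2.red A) (CAlg2.normRed A)) = IsLocalRing.maximalIdeal (CAlg2.red A) := by
      refine le_antisymm (IsLocalRing.le_maximalIdeal (Ideal.IsPrime.ne_top inferInstance)) fun z hz => ?_
      obtain ⟨r, s, hs, h⟩ := exists_frac p z
      have hr : r ∈ p := by
        by_contra hr
        have h2 : IsUnit (algebraMap R (CAlg2.red A) r) := by
          rw [IsScalarTower.algebraMap_apply R A (CAlg2.red A)]
          exact (IsLocalization.map_units A (⟨r, hr⟩ : p.primeCompl)).map _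
        exact hz (isUnit_of_mul_isUnit_right (h ▸ h2))
      have h1 : algebraMap R (NB R A) r ∈ P := by
        rw [← hP] at hr
        exact hr
      have h3 : algebraMap (CAlg2.red A) (CAlg2.normRed A) (algebraMap R (CAlg2.red A) s * z) ∈ J := by
        rw [h]
        have := Ideal.mem_map_of_mem (algebraMap (NB R A) (CAlg2.normRed A)) h1
        convert this using 1
        exact Subtype.ext (IsScalarTower.algebraMap_apply R (CAlg2.red A) (KF A) r).symm
      rw [map_mul] at h3
      have h4 : IsUnit (algebraMap (CAlg2.red A) (CAlg2.normRed A) (algebraMap R (CAlg2.red A) s)) := by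
        rw [IsScalarTower.algebraMap_apply R A (CAlg2.red A)]
        exact ((IsLocalization.map_units A (⟨s, hs⟩ : p.primeCompl)).map _).map _
      exact (Ideal.unit_mul_mem_iff_mem _ h4).1 h3
    rw [this]
    infer_instance
  rw [← IsLocalRing.eq_maximalIdeal hJmax]
  exact hc.symm

omit [IsDomain (CAlg2.red A)] in
/-- the unibranch data at `p` -/
theorem ub_NB (hA : CAlg2.IsUnibranch A)
    (hnhd : zeroLocus (RingHom.ker (algebraMap R (CAlg2.red A)) : Set R) ∈ 𝓝 (⟨p, ‹_›⟩ : PrimeSpectrum R)) :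
    haveI := hA.1
    UB p (NB R A) := by
  haveI := hA.1
  refine ⟨isIntegrallyClosed_NB p, inferInstance, fun P₁ P₂ h₁ h₂ e₁ e₂ => ?_, ?_, fun _ => ?_⟩
  · rw [exists_point_NB p hA.2 P₁ e₁, exists_point_NB p hA.2 P₂ e₂]
  · rw [ker_NB (A := A)]
    exact ker_le_of_le p le_rfl
  · rw [ker_NB (A := A)]
    exact hnhd

omit [IsDomain (CAlg2.red A)] in
theorem rad_NB (hA : CAlg2.IsGeomUnibranch A) :
    haveI := hA.1.1
    Rad p (NB R A) := by
  haveI := hA.1.1
  haveI := hA.1.2
  set m' := IsLocalRing.maximalIdeal (CAlg2.normRed A)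
  refine ⟨ringExpChar (CAlg2.normRed A ⧸ m'), fun P hPp hP => ?_⟩
  haveI := hPp
  have hPm := exists_point_NB p hA.1.2 P hP
  subst hPm
  refine ⟨?_, fun b => ?_⟩
  · haveI : IsDomain (CAlg2.normRed A ⧸ m') := inferInstance
    let ψ : NB R A ⧸ m'.comap incl →+* CAlg2.normRed A ⧸ m' := Ideal.quotientMap m' incl le_rfl
    exact (ψ.expChar_iff Ideal.quotientMap_injective _).2 inferInstance
  · obtain ⟨n, a, ha⟩ := hA.2 m' (Ideal.Quotient.mk m' (incl b))
    obtain ⟨r, s, hs, h⟩ := exists_frac p (Ideal.Quotient.mk (nilradical A) a)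
    refine ⟨n, s, r, hs, ?_⟩
    rw [Ideal.mem_comap, ← Ideal.Quotient.eq_zero_iff_mem, map_sub, map_sub, map_mul, map_mul, map_pow, map_pow]
    have hι : ∀ t, incl (algebraMap R (NB R A) t) =
        algebraMap (CAlg2.red A) (CAlg2.normRed A) (algebraMap R (CAlg2.red A) t) := fun t =>
      Subtype.ext (IsScalarTower.algebraMap_apply R (CAlg2.red A) (KF A) t)
    rw [hι, hι, ← ha, ← h, map_mul, map_mul, sub_eq_zero]
    rfl

omit [IsDomain (CAlg2.red A)] [IsLocalRing A] in
/-- the neighbourhood condition over a Noetherian ring -/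
theorem nhd_of_noetherian [IsNoetherianRing R] (hdom : IsDomain (CAlg2.red A)) :
    zeroLocus (RingHom.ker (algebraMap R (CAlg2.red A)) : Set R) ∈ 𝓝 (⟨p, ‹_›⟩ : PrimeSpectrum R) := by
  set m₀ := RingHom.ker (algebraMap R (CAlg2.red A))
  haveI hm₀ : m₀.IsPrime := RingHom.ker_isPrime _
  let bad := {q ∈ minimalPrimes R | q ≠ m₀}
  have hfin : bad.Finite := (Ideal.finite_minimalPrimes_of_isNoetherianRing R ⊥).subset fun q hq => hq.1
  refine Filter.mem_of_superset ((IsOpen.mem_nhds (s := (⋃ q ∈ bad, zeroLocus (q : Set R))ᶜ)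
    (hfin.isClosed_biUnion fun q _ => isClosed_zeroLocus _).isOpen_compl) ?_) ?_
  · intro h
    obtain ⟨q, hq, hqp⟩ := Set.mem_iUnion₂.1 h
    haveI := hq.1.1.1
    exact hq.2 (le_antisymm (hq.1.2 ⟨hm₀, bot_le⟩ (ker_le_of_le p hqp)) (ker_le_of_le p hqp))
  · intro r hr
    haveI := r.2
    obtain ⟨q, hq, hqr⟩ := Ideal.exists_minimalPrimes_le (I := (⊥ : Ideal R)) (J := r.asIdeal) bot_le
    by_cases h : q = m₀
    · subst h
      exact hqr
    · exact absurd (Set.mem_iUnion₂.2 ⟨q, (⟨hq, h⟩ : q ∈ bad), hqr⟩) hr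

omit [IsDomain (CAlg2.red A)] [IsLocalRing A] in
/-- the neighbourhood condition over a ring with irreducible spectrum -/
theorem nhd_of_irreducible (hdom : IsDomain (CAlg2.red A)) (h : (nilradical R).IsPrime) :
    zeroLocus (RingHom.ker (algebraMap R (CAlg2.red A)) : Set R) ∈ 𝓝 (⟨p, ‹_›⟩ : PrimeSpectrum R) := by
  refine Filter.mem_of_superset Filter.univ_mem fun r _ => ?_
  haveI := r.2
  refine (ker_le_of_le p (r := nilradical R) ?_).trans (nilradical_le_prime r.asIdeal)
  exact nilradical_le_prime p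

end Groth.Agent.Unibr4
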