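import Groth.Agent.Lib.DimFormula14.Scheme
import Groth.Agent.Lib.EGA43Top.OpenCriterion
import Groth.Agent.Lib.FibGenSch4
import Mathlib.RingTheory.Ideal.KrullsHeightTheorem
import Mathlib.RingTheory.Ideal.MinimalPrime.Noetherian

/-!
# Lifting generizations keeps the residual degree
-/

universe u

open CategoryTheory AlgebraicGeometry

set_option backward.isDefEq.respectTransparency.types false

namespace Groth.Agent.Unibr4

open FibDim14 DimFormula14

/-- Along an immediate specialisation in the base the residual degree does not grow. -/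
theorem rd_le_of_height_le_one {A B : Scheme.{u}} (f : A ⟶ B) [IsLocallyNoetherian B] [LocallyOfFiniteType f]
    {U : A.Opens} (hU : IsAffineOpen U) {V : B.Opens} (hV : IsAffineOpen V) (e : U ≤ f ⁻¹ᵁ V)
    (ξ x : A) (hξ : ξ ∈ U) (hx : x ∈ U) (hsp : ξ ⤳ x) (hne : ξ ≠ x)
    (hht : ∀ [(hV.primeIdealOf ⟨f ξ, e hξ⟩).asIdeal.IsPrime],
      ((hV.primeIdealOf ⟨f x, e hx⟩).asIdeal.map (Ideal.Quotient.mk (hV.primeIdealOf ⟨f ξ, e hξ⟩).asIdeal)).height ≤ 1) :
    rd f x ≤ rd f ξ := by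
  haveI : IsNoetherianRing Γ(B, V) := IsLocallyNoetherian.component_noetherian ⟨V, hV⟩
  letI : Algebra Γ(B, V) Γ(A, U) := (f.appLE V U e).hom.toAlgebra
  haveI : Algebra.FiniteType Γ(B, V) Γ(A, U) := f.finiteType_appLE hV hU e
  haveI : IsNoetherianRing Γ(A, U) := Algebra.FiniteType.isNoetherianRing Γ(B, V) Γ(A, U)
  have hP : ∀ (z : A) (hz : z ∈ U), (hV.primeIdealOf ⟨f z, e hz⟩).asIdeal =
      (hU.primeIdealOf ⟨z, hz⟩).asIdeal.under Γ(B, V) := fun z hz =>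
    congrArg PrimeSpectrum.asIdeal (IsAffineOpen.comap_primeIdealOf_appLE V hV U hU e hz).symm
  let p := (hV.primeIdealOf ⟨f x, e hx⟩).asIdeal
  let q := (hU.primeIdealOf ⟨x, hx⟩).asIdeal
  let P := (hV.primeIdealOf ⟨f ξ, e hξ⟩).asIdeal
  let Q' := (hU.primeIdealOf ⟨ξ, hξ⟩).asIdeal
  haveI : q.LiesOver p := ⟨hP x hx⟩
  haveI : Q'.LiesOver P := ⟨hP ξ hξ⟩
  haveI : P.IsPrime := (hV.primeIdealOf ⟨f ξ, e hξ⟩).2
  haveI : Q'.IsPrime := (hU.primeIdealOf ⟨ξ, hξ⟩).2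
  have hQ'q : Q' ≤ q := (VarDim.primeIdealOf_le_iff hU ⟨ξ, hξ⟩ ⟨x, hx⟩).2 hsp
  have hQne : Q' ≠ q := fun h => hne (by
    have h1 : hU.primeIdealOf ⟨ξ, hξ⟩ = hU.primeIdealOf ⟨x, hx⟩ := PrimeSpectrum.ext h
    have h2 := congrArg hU.fromSpec h1
    rw [hU.fromSpec_primeIdealOf, hU.fromSpec_primeIdealOf] at h2
    exact h2)
  have hPp : P ≤ p := ((hP ξ hξ).le.trans (Ideal.comap_mono hQ'q)).trans (hP x hx).ge
  let R' := Γ(B, V) ⧸ P
  let S' := Γ(A, U) ⧸ Q'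
  haveI := faithfulSMul_quotient P Q'
  let p' : Ideal R' := p.map (Ideal.Quotient.mk P)
  let q' : Ideal S' := q.map (Ideal.Quotient.mk Q')
  haveI : p'.IsPrime := Ideal.map_isPrime_of_surjective Ideal.Quotient.mk_surjective (by rwa [Ideal.mk_ker])
  haveI : q'.IsPrime := Ideal.map_isPrime_of_surjective Ideal.Quotient.mk_surjective (by rwa [Ideal.mk_ker])
  have hp' : p'.comap (Ideal.Quotient.mk P) = p := by
    rw [Ideal.comap_map_of_surjective _ Ideal.Quotient.mk_surjective, ← RingHom.ker_eq_comap_bot, Ideal.mk_ker,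
      sup_eq_left.2 hPp]
  have hq' : q'.comap (Ideal.Quotient.mk Q') = q := by
    rw [Ideal.comap_map_of_surjective _ Ideal.Quotient.mk_surjective, ← RingHom.ker_eq_comap_bot, Ideal.mk_ker,
      sup_eq_left.2 hQ'q]
  haveI : q'.LiesOver p' := ⟨by
    refine Ideal.comap_injective_of_surjective _ Ideal.Quotient.mk_surjective ?_
    rw [hp', Ideal.under, Ideal.comap_comap]
    show p = _
    rw [show (algebraMap R' S').comp (Ideal.Quotient.mk P) = (Ideal.Quotient.mk Q').comp (algebraMap Γ(B, V) Γ(A, U))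
      from rfl, ← Ideal.comap_comap, hq']
    exact hP x hx⟩
  haveI : Algebra.FiniteType Γ(B, V) S' := .trans (R := Γ(B, V)) (S := Γ(A, U)) inferInstance inferInstance
  haveI : Algebra.FiniteType R' S' := .of_restrictScalars_finiteType Γ(B, V) R' S'
  have key := height_add_tr_le R' S' p' q'
  have e1 : tr R' S' = (rd f ξ : ℕ∞) := tr_eq_rd f hU hV e hξ
  have e2 : tr (Γ(B, V) ⧸ p) (Γ(A, U) ⧸ q) = (rd f x : ℕ∞) := tr_eq_rd f hU hV e hx
  have e3 : tr (R' ⧸ p') (S' ⧸ q') = tr (Γ(B, V) ⧸ p) (Γ(A, U) ⧸ q) := by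
    rw [tr, tr]
    let a : (R' ⧸ p') ≃+* (Γ(B, V) ⧸ p) := DoubleQuot.quotQuotEquivQuotOfLE hPp
    let b : (S' ⧸ q') ≃+* (Γ(A, U) ⧸ q) := DoubleQuot.quotQuotEquivQuotOfLE hQ'q
    congr 1
    letI alg : Algebra (R' ⧸ p') (Γ(A, U) ⧸ q) := (b.toRingHom.comp (algebraMap (R' ⧸ p') (S' ⧸ q'))).toAlgebra
    let b' : (S' ⧸ q') ≃ₐ[R' ⧸ p'] (Γ(A, U) ⧸ q) := AlgEquiv.ofRingEquiv (f := b) fun _ => rfl
    rw [b'.trdeg_eq]
    letI : Algebra (R' ⧸ p') (Γ(B, V) ⧸ p) := a.toRingHom.toAlgebra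
    haveI : FaithfulSMul (R' ⧸ p') (Γ(B, V) ⧸ p) := (faithfulSMul_iff_algebraMap_injective _ _).2 a.injective
    haveI := faithfulSMul_quotient p q
    haveI : IsScalarTower (R' ⧸ p') (Γ(B, V) ⧸ p) (Γ(A, U) ⧸ q) := IsScalarTower.of_algebraMap_eq fun z => by
      obtain ⟨z, rfl⟩ := Ideal.Quotient.mk_surjective z
      obtain ⟨z, rfl⟩ := Ideal.Quotient.mk_surjective z
      rfl
    haveI : Algebra.IsAlgebraic (R' ⧸ p') (Γ(B, V) ⧸ p) := ⟨fun w => by
      obtain ⟨r, rfl⟩ := a.surjective w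
      exact isAlgebraic_algebraMap r⟩
    have h := trdeg_add_eq (R' ⧸ p') (Γ(B, V) ⧸ p) (A := Γ(A, U) ⧸ q)
    rw [trdeg_eq_zero (R := R' ⧸ p') (A := Γ(B, V) ⧸ p), zero_add] at h
    exact h.symm
  rw [e1, e3, e2] at key
  have hq1 : (1 : ℕ∞) ≤ q'.height := by
    refine Order.one_le_iff_pos.2 (pos_of_ne_zero fun h0 => hQne ?_)
    have hbot : q' ≤ ⊥ := (Ideal.height_eq_zero_iff_eq_bot.1 h0).le
    refine le_antisymm hQ'q ?_
    rw [← hq']
    exact (Ideal.comap_mono hbot).trans (by rw [← RingHom.ker_eq_comap_bot, Ideal.mk_ker])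
  have fin : (1 : ℕ∞) + rd f x ≤ 1 + rd f ξ :=
    (add_le_add hq1 le_rfl).trans (key.trans (add_le_add hht le_rfl))
  have : 1 + rd f x ≤ 1 + rd f ξ := by exact_mod_cast fin
  omega

/-- If generizations lift at a point, they lift with at least the same residual degree. -/
theorem exists_lift_rd_ge {A B : Scheme.{u}} (f : A ⟶ B) [IsLocallyNoetherian B] [LocallyOfFiniteType f] (x : A)
    (h : EGA43Top.LiftsAt f x) {r : B} (hr : r ⤳ f x) :
    ∃ x₁, x₁ ⤳ x ∧ f x₁ = r ∧ rd f x ≤ rd f x₁ := by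
  classical
  obtain ⟨V, hV, hyV, -⟩ := exists_isAffineOpen_mem_and_subset (U := (⊤ : B.Opens)) (x := f x) trivial
  obtain ⟨U, hU, hxU, hUV⟩ := exists_isAffineOpen_mem_and_subset (U := f ⁻¹ᵁ V) (x := x) hyV
  have e : U ≤ f ⁻¹ᵁ V := hUV
  haveI : IsNoetherianRing Γ(B, V) := IsLocallyNoetherian.component_noetherian ⟨V, hV⟩
  letI : Algebra Γ(B, V) Γ(A, U) := (f.appLE V U e).hom.toAlgebra
  haveI : Algebra.FiniteType Γ(B, V) Γ(A, U) := f.finiteType_appLE hV hU e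
  haveI : IsNoetherianRing Γ(A, U) := Algebra.FiniteType.isNoetherianRing Γ(B, V) Γ(A, U)
  let φ := f.appLE V U e
  have hlift : ∀ z : Spec Γ(A, U), f (hU.fromSpec z) = hV.fromSpec (Spec.map φ z) := fun z => by
    rw [← Scheme.Hom.comp_apply, ← IsAffineOpen.SpecMap_appLE_fromSpec f hV hU e, Scheme.Hom.comp_apply]
  let p : Spec Γ(B, V) := hV.primeIdealOf ⟨f x, hyV⟩
  have hp : hV.fromSpec p = f x := hV.fromSpec_primeIdealOf ⟨f x, hyV⟩
  suffices key : ∀ I : Ideal Γ(B, V), ∀ P : Spec Γ(B, V), P.asIdeal = I → P.asIdeal ≤ p.asIdeal →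
      ∃ x₁, x₁ ⤳ x ∧ f x₁ = hV.fromSpec P ∧ rd f x ≤ rd f x₁ by
    have hrV : r ∈ V := hr.mem_open V.2 hyV
    let P : Spec Γ(B, V) := hV.primeIdealOf ⟨r, hrV⟩
    have hP : hV.fromSpec P = r := hV.fromSpec_primeIdealOf ⟨r, hrV⟩
    rw [← hP]
    refine key _ P rfl ((PrimeSpectrum.le_iff_specializes P p).2 ?_)
    have hsp : P ⤳ p := by
      rw [← hV.fromSpec.isEmbedding.isInducing.specializes_iff, hP, hp]
      exact hr
    exact hsp
  intro I
  induction I using WellFoundedGT.induction with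
  | _ I ih =>
    rintro P rfl hPp
    by_cases heq : P = p
    · exact ⟨x, specializes_rfl, by rw [heq, hp], le_rfl⟩
    haveI := P.2
    haveI := p.2
    let J : Ideal Γ(A, U) := P.asIdeal.map φ.hom
    have hfin : J.minimalPrimes.Finite := J.finite_minimalPrimes_of_isNoetherianRing _
    let bad : Finset (Ideal Γ(B, V)) :=
      insert P.asIdeal ((hfin.toFinset.image (Ideal.comap φ.hom)).filter fun c => c ≤ p.asIdeal ∧ c ≠ p.asIdeal)
    obtain ⟨a, hap, ha⟩ : ∃ a ∈ p.asIdeal, ∀ c ∈ bad, a ∉ c := by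
      by_contra hn
      push Not at hn
      have hsub : (p.asIdeal : Set Γ(B, V)) ⊆ ⋃ c ∈ (↑bad : Set (Ideal Γ(B, V))), (c : Set Γ(B, V)) := fun a ha => by
        obtain ⟨c, hc, hac⟩ := hn a ha
        exact Set.mem_iUnion₂.2 ⟨c, hc, hac⟩
      obtain ⟨c, hc, hle⟩ := (Ideal.subset_union_prime (f := fun c : Ideal Γ(B, V) => c) ⊥ ⊥ (fun c hc _ _ => by
        rcases Finset.mem_insert.1 hc with rfl | hc
        · exact P.2
        · obtain ⟨Q, hQ, rfl⟩ := Finset.mem_image.1 (Finset.mem_filter.1 hc).1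
          exact Ideal.IsPrime.comap φ.hom (hK := (hfin.mem_toFinset.1 hQ).1.1))).1 hsub
      rcases Finset.mem_insert.1 hc with rfl | hc
      · exact heq (PrimeSpectrum.ext (le_antisymm hPp hle))
      · exact (Finset.mem_filter.1 hc).2.2 (le_antisymm (Finset.mem_filter.1 hc).2.1 hle)
    have haP : a ∉ P.asIdeal := ha _ (Finset.mem_insert_self _ _)
    obtain ⟨r₁, hr₁, hr₁p⟩ := Ideal.exists_minimalPrimes_le (I := P.asIdeal ⊔ Ideal.span {a}) (J := p.asIdeal)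
      (sup_le hPp ((Ideal.span_singleton_le_iff_mem _).2 hap))
    have hPr₁ : P.asIdeal ≤ r₁ := le_sup_left.trans hr₁.1.2
    have har₁ : a ∈ r₁ := hr₁.1.2 (Ideal.mem_sup_right (Ideal.mem_span_singleton_self a))
    haveI := hr₁.1.1
    let R₁ : Spec Γ(B, V) := ⟨r₁, hr₁.1.1⟩
    have hPR : P.asIdeal < r₁ := lt_of_le_of_ne hPr₁ fun h' => haP (h' ▸ har₁)
    have h1 : ((r₁.map (Ideal.Quotient.mk P.asIdeal))).height ≤ 1 := by
      haveI : (r₁.map (Ideal.Quotient.mk P.asIdeal)).IsPrime :=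
        Ideal.map_isPrime_of_surjective Ideal.Quotient.mk_surjective (by rwa [Ideal.mk_ker])
      refine Ideal.height_le_one_of_isPrincipal_of_mem_minimalPrimes (Ideal.span {Ideal.Quotient.mk P.asIdeal a}) _ ?_
      refine ⟨⟨inferInstance, (Ideal.span_singleton_le_iff_mem _).2 (Ideal.mem_map_of_mem _ har₁)⟩, fun K hK hKr => ?_⟩
      haveI := hK.1
      refine Ideal.map_le_of_le_comap (hr₁.2 ⟨Ideal.comap_isPrime _ _, sup_le ?_ ?_⟩ ?_)
      · conv_lhs => rw [← Ideal.mk_ker (I := P.asIdeal)]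
        exact Ideal.ker_le_comap _
      · exact (Ideal.span_singleton_le_iff_mem _).2 (hK.2 (Ideal.mem_span_singleton_self _))
      · refine (Ideal.comap_mono hKr).trans (le_of_eq ?_)
        rw [Ideal.comap_map_of_surjective' _ Ideal.Quotient.mk_surjective, Ideal.mk_ker, sup_eq_left.2 hPr₁]
    obtain ⟨x₂, hx₂, hfx₂, hrd₂, t, htx₂, hft⟩ : ∃ x₂, x₂ ⤳ x ∧ f x₂ = hV.fromSpec R₁ ∧ rd f x ≤ rd f x₂ ∧
        ∃ t, t ⤳ x₂ ∧ f t = hV.fromSpec P := by
      by_cases hrp : r₁ = p.asIdeal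
      · refine ⟨x, specializes_rfl, ?_, le_rfl, h (hV.fromSpec P) (hp ▸
          ((PrimeSpectrum.le_iff_specializes P p).1 hPp).map hV.fromSpec.continuous)⟩
        rw [show R₁ = p from PrimeSpectrum.ext hrp, hp]
      obtain ⟨x₂, hx₂, hfx₂, hrd₂⟩ := ih r₁ hPR R₁ rfl hr₁p
      have hx₂U : x₂ ∈ U := hx₂.mem_open U.2 hxU
      refine ⟨x₂, hx₂, hfx₂, hrd₂, ?_⟩
      let q₂ : Spec Γ(A, U) := hU.primeIdealOf ⟨x₂, hx₂U⟩
      have hq₂ : hU.fromSpec q₂ = x₂ := hU.fromSpec_primeIdealOf ⟨x₂, hx₂U⟩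
      have hq₂r : Spec.map φ q₂ = R₁ := hV.fromSpec.isOpenEmbedding.injective (by rw [← hlift, hq₂, hfx₂])
      have hJq : J ≤ q₂.asIdeal :=
        Ideal.map_le_iff_le_comap.2 (hPr₁.trans (congrArg PrimeSpectrum.asIdeal hq₂r).ge)
      haveI := q₂.2
      obtain ⟨Q, hQ, hQq⟩ := Ideal.exists_minimalPrimes_le hJq
      let Q₁ : Spec Γ(A, U) := ⟨Q, hQ.1.1⟩
      have hc1 : Q.comap φ.hom ≤ r₁ := (Ideal.comap_mono hQq).trans (congrArg PrimeSpectrum.asIdeal hq₂r).le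
      have hc2 : P.asIdeal ≤ Q.comap φ.hom := Ideal.map_le_iff_le_comap.1 hQ.1.2
      haveI : (Q.comap φ.hom).IsPrime := Ideal.IsPrime.comap φ.hom (hK := hQ.1.1)
      refine ⟨hU.fromSpec Q₁, hq₂ ▸ ((PrimeSpectrum.le_iff_specializes Q₁ q₂).1 hQq).map hU.fromSpec.continuous, ?_⟩
      rw [hlift]
      refine congrArg hV.fromSpec (PrimeSpectrum.ext (?_ : Q.comap φ.hom = P.asIdeal))
      by_contra hcP
      have hbad : Q.comap φ.hom ∈ bad := Finset.mem_insert_of_mem (Finset.mem_filter.2 ⟨Finset.mem_image.2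
        ⟨Q, hfin.mem_toFinset.2 hQ, rfl⟩, hc1.trans hr₁p, fun h' => hrp (le_antisymm hr₁p (h' ▸ hc1))⟩)
      have hac := ha _ hbad
      have hlt : Q.comap φ.hom < r₁ := lt_of_le_of_ne hc1 fun h' => hac (h' ▸ har₁)
      let π := Ideal.Quotient.mk P.asIdeal
      have hcm : ∀ (K : Ideal Γ(B, V)), P.asIdeal ≤ K → (K.map π).comap π = K := fun K hK => by
        rw [Ideal.comap_map_of_surjective' _ Ideal.Quotient.mk_surjective, Ideal.mk_ker, sup_eq_left.2 hK]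
      haveI hp1 : (r₁.map π).IsPrime := Ideal.map_isPrime_of_surjective Ideal.Quotient.mk_surjective (by rwa [Ideal.mk_ker])
      haveI hp2 : ((Q.comap φ.hom).map π).IsPrime :=
        Ideal.map_isPrime_of_surjective Ideal.Quotient.mk_surjective (by rwa [Ideal.mk_ker])
      have l1 : (Q.comap φ.hom).map π < r₁.map π := lt_of_le_of_ne (Ideal.map_mono hc1) fun h' =>
        hlt.ne (by rw [← hcm _ hc2, h', hcm _ hPr₁])
      have l0 : (⊥ : Ideal (Γ(B, V) ⧸ P.asIdeal)) < (Q.comap φ.hom).map π := bot_lt_iff_ne_bot.2 fun h' =>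
        hcP (by
          have := hcm _ hc2
          rw [h', ← RingHom.ker_eq_comap_bot, Ideal.mk_ker] at this
          exact this.symm)
      have h4 : ((Q.comap φ.hom).map π).height < 1 := lt_of_lt_of_le (Ideal.height_strict_mono_of_isPrime l1) h1
      rw [Order.lt_one_iff] at h4
      exact l0.ne' (Ideal.height_eq_zero_iff_eq_bot.1 h4)
    have hx₂U : x₂ ∈ U := hx₂.mem_open U.2 hxU
    have htU : t ∈ U := htx₂.mem_open U.2 hx₂U
    refine ⟨t, htx₂.trans hx₂, hft, hrd₂.trans (rd_le_of_height_le_one f hU hV e t x₂ htU hx₂U htx₂ ?_ ?_)⟩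
    · rintro rfl
      rw [hft] at hfx₂
      exact haP (congrArg PrimeSpectrum.asIdeal (hV.fromSpec.isOpenEmbedding.injective hfx₂) ▸ har₁)
    · have e1 : hV.primeIdealOf ⟨f t, e htU⟩ = P := hV.fromSpec.isOpenEmbedding.injective
        ((hV.fromSpec_primeIdealOf _).trans hft)
      have e2 : hV.primeIdealOf ⟨f x₂, e hx₂U⟩ = R₁ := hV.fromSpec.isOpenEmbedding.injective
        ((hV.fromSpec_primeIdealOf _).trans hfx₂)
      intro _
      rw [e1, e2]
      exact h1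

end Groth.Agent.Unibr4
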