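import Groth.Agent.Lib.Hens.FiniteType
import Groth.Prelude.Def_EGA43
import Mathlib.RingTheory.IntegralClosure.GoingDown
import Mathlib.RingTheory.QuasiFinite.Basic
import Mathlib.RingTheory.ZariskisMainTheorem

/-!
# Openness over unibranch points
-/

universe u

open Polynomial Topology TensorProduct PrimeSpectrum

namespace Groth.Agent.Unibr4

/-- An integral domain extension of an integrally closed domain gives an open map on spectra. -/
theorem isOpenMap_comap_of_integral {B C : Type u} [CommRing B] [IsDomain B] [IsIntegrallyClosed B]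
    [CommRing C] [IsDomain C] [Algebra B C] [FaithfulSMul B C] [Algebra.IsIntegral B C] :
    IsOpenMap (PrimeSpectrum.comap (algebraMap B C)) := by
  refine PrimeSpectrum.isTopologicalBasis_basic_opens.isOpenMap_iff.2 ?_
  rintro _ ⟨b, rfl⟩
  set f := minpoly B b
  have hb := Algebra.IsIntegral.isIntegral (R := B) b
  suffices h : PrimeSpectrum.comap (algebraMap B C) '' (basicOpen b : Set (PrimeSpectrum C)) =
      ⋃ i ∈ {i | i ≠ f.natDegree}, (basicOpen (f.coeff i) : Set (PrimeSpectrum B)) by
    rw [h]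
    exact isOpen_biUnion fun i _ => (basicOpen _).isOpen
  have hmap : ∀ p : PrimeSpectrum B, (∀ i, i ≠ f.natDegree → f.coeff i ∈ p.asIdeal) →
      f.map (Ideal.Quotient.mk p.asIdeal) = X ^ f.natDegree := by
    intro p H
    ext i
    obtain hi | rfl | hi := lt_trichotomy i f.natDegree
    · simpa [hi.ne, Ideal.Quotient.eq_zero_iff_mem] using H _ hi.ne
    · simp [f, minpoly.monic hb]
    · simp [coeff_eq_zero_of_natDegree_lt hi, hi.ne']
  ext p
  constructor
  · rintro ⟨q, hq, rfl⟩
    by_contra hn
    simp only [Set.mem_iUnion, not_exists] at hn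
    have h1 := hmap (PrimeSpectrum.comap (algebraMap B C) q) fun i hi => by
      simpa using hn i hi
    let p := (PrimeSpectrum.comap (algebraMap B C) q).asIdeal
    let ψ : B ⧸ p →+* C ⧸ q.asIdeal := Ideal.quotientMap q.asIdeal (algebraMap B C) le_rfl
    have h2 : (f.map (Ideal.Quotient.mk p)).eval₂ ψ (Ideal.Quotient.mk q.asIdeal b) = 0 := by
      rw [Polynomial.eval₂_map,
        show ψ.comp (Ideal.Quotient.mk p) = (Ideal.Quotient.mk q.asIdeal).comp (algebraMap B C) from rfl,
        ← Polynomial.hom_eval₂, ← Polynomial.aeval_def, minpoly.aeval, map_zero]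
    rw [h1, Polynomial.eval₂_pow, Polynomial.eval₂_X, ← map_pow, Ideal.Quotient.eq_zero_iff_mem] at h2
    exact hq (q.2.mem_of_pow_mem _ h2)
  · intro hp
    simp only [Set.mem_iUnion] at hp
    obtain ⟨i, hi, hp⟩ := hp
    by_contra hn
    refine hp ?_
    have hrad : b ∈ (p.asIdeal.map (algebraMap B C)).radical := by
      rw [Ideal.radical_eq_sInf, Ideal.mem_sInf]
      rintro Q ⟨hQ, hQp⟩
      by_contra hbQ
      haveI := hQp
      have hle : p.asIdeal ≤ Q.comap (algebraMap B C) := Ideal.map_le_iff_le_comap.1 hQ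
      obtain ⟨Q', hQ'Q, hQ', hQ'p⟩ := Ideal.exists_ideal_le_liesOver_of_le (S := C) (p := p.asIdeal)
        (q := Q.comap (algebraMap B C)) Q hle
      exact hn ⟨⟨Q', hQ'⟩, fun h => hbQ (hQ'Q h), PrimeSpectrum.ext hQ'p.over.symm⟩
    obtain ⟨N, hN⟩ := hrad
    obtain ⟨g, hgm, hgb, hg⟩ := exists_monic_aeval_eq_zero_forall_mem_of_mem_map hN
    have hdvd : f ∣ g.comp (X ^ N) := minpoly.isIntegrallyClosed_dvd hb (by
      rw [Polynomial.aeval_comp, map_pow, Polynomial.aeval_X]; exact hgb)
    by_cases hN0 : N = 0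
    · subst hN0
      have : (1 : C) ∈ p.asIdeal.map (algebraMap B C) := by simpa using hN
      have hbot : p.asIdeal.map (algebraMap B C) = ⊤ := (Ideal.eq_top_iff_one _).2 this
      obtain ⟨Q', hQ', hQp⟩ := Ideal.exists_ideal_over_prime_of_isIntegral_of_isDomain (S := C) p.asIdeal
        (by rw [(RingHom.injective_iff_ker_eq_bot _).1 (FaithfulSMul.algebraMap_injective B C)]; exact bot_le)
      exact absurd (le_antisymm le_top (hbot ▸ (Ideal.map_le_iff_le_comap.2 hQp.ge))) hQ'.ne_top
    · have hgX : (g.comp (X ^ N)).map (Ideal.Quotient.mk p.asIdeal) = X ^ (g.natDegree * N) := by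
        have hgmap : g.map (Ideal.Quotient.mk p.asIdeal) = X ^ g.natDegree := by
          ext i
          obtain hi | rfl | hi := lt_trichotomy i g.natDegree
          · simpa [hi.ne, Ideal.Quotient.eq_zero_iff_mem] using hg _ hi.ne
          · simp [hgm]
          · simp [coeff_eq_zero_of_natDegree_lt hi, hi.ne']
        rw [Polynomial.map_comp, hgmap, Polynomial.map_pow, Polynomial.map_X, Polynomial.pow_comp,
          Polynomial.X_comp, ← pow_mul, mul_comm]
      obtain ⟨j, hj, a, ha⟩ := (dvd_prime_pow (Polynomial.prime_X (R := B ⧸ p.asIdeal)) _).mp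
        (hgX ▸ Polynomial.map_dvd (Ideal.Quotient.mk p.asIdeal) hdvd)
      obtain ⟨r, hr, e⟩ := Polynomial.isUnit_iff.mp a⁻¹.isUnit
      rw [← Units.eq_mul_inv_iff_mul_eq, ← e] at ha
      obtain rfl : j = f.natDegree := by
        simpa [(minpoly.monic hb).natDegree_map, hr.ne_zero, f] using congr(($ha).natDegree).symm
      have h3 := congrArg (fun t => Polynomial.coeff t i) ha
      simp only [Polynomial.coeff_map] at h3
      refine Ideal.Quotient.eq_zero_iff_mem.1 (h3.trans ?_)
      rw [Polynomial.coeff_mul_C, Polynomial.coeff_X_pow, if_neg hi, zero_mul]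

end Groth.Agent.Unibr4
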