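import Groth.Agent.Lib.Unibr4.Core
import Groth.Agent.Lib.Unibr4.Poly
import Mathlib.RingTheory.TensorProduct.MvPolynomial
import Mathlib.RingTheory.Spectrum.Prime.Polynomial
import Mathlib.AlgebraicGeometry.PullbackCarrier

/-!
# Universal openness at a point
-/

universe u

open Topology TensorProduct PrimeSpectrum

attribute [local instance] MvPolynomial.algebraMvPolynomial

namespace Groth.Agent.Unibr4

variable {R : Type u} [CommRing R] {S : Type u} [CommRing S] [Algebra R S]

/-- Openness at the points over `Q` after all polynomial base changes gives it after all base changes. -/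
theorem isOpenAt_baseChange (Q : Ideal S)
    (h : ∀ (n : ℕ) (Qn : PrimeSpectrum (MvPolynomial (Fin n) S)), Qn.asIdeal.comap MvPolynomial.C = Q →
      EGA43.IsOpenAt (PrimeSpectrum.comap (algebraMap (MvPolynomial (Fin n) R) (MvPolynomial (Fin n) S))) Qn)
    (T : Type u) [CommRing T] [Algebra R T] (z : PrimeSpectrum (T ⊗[R] S))
    (hz : z.asIdeal.comap Algebra.TensorProduct.includeRight.toRingHom = Q) :
    EGA43.IsOpenAt (PrimeSpectrum.comap (algebraMap T (T ⊗[R] S))) z := by
  intro U hU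
  obtain ⟨_, ⟨g, rfl⟩, hgz, hgU⟩ := PrimeSpectrum.isTopologicalBasis_basic_opens.mem_nhds_iff.1 hU
  obtain ⟨n, t, s, rfl⟩ := TensorProduct.exists_sum_tmul_eq g
  let φT : MvPolynomial (Fin n) R →+* T := (MvPolynomial.aeval t).toRingHom
  let ι : S →+* T ⊗[R] S := Algebra.TensorProduct.includeRight.toRingHom
  let η : MvPolynomial (Fin n) S →+* T ⊗[R] S :=
    MvPolynomial.eval₂Hom ι fun i => algebraMap T (T ⊗[R] S) (t i)
  have hcomm : η.comp (algebraMap (MvPolynomial (Fin n) R) (MvPolynomial (Fin n) S)) =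
      (algebraMap T (T ⊗[R] S)).comp φT := by
    refine MvPolynomial.ringHom_ext (fun r => ?_) fun i => ?_
    · rw [RingHom.comp_apply, algebraMap_C]
      simp only [η, φT, MvPolynomial.eval₂Hom_C, RingHom.comp_apply, AlgHom.toRingHom_eq_coe, RingHom.coe_coe,
        MvPolynomial.aeval_C, ι]
      rw [← IsScalarTower.algebraMap_apply]
      exact AlgHom.commutes _ r
    · simp [η, φT]
  let g₀ : MvPolynomial (Fin n) S := ∑ i, MvPolynomial.X i * MvPolynomial.C (s i)
  have hg₀ : η g₀ = ∑ i, t i ⊗ₜ[R] s i := by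
    simp [η, g₀, ι, Algebra.TensorProduct.algebraMap_apply]
  let Qn := PrimeSpectrum.comap η z
  have hQn : Qn.asIdeal.comap MvPolynomial.C = Q := by
    rw [← hz]
    show (z.asIdeal.comap η).comap MvPolynomial.C = z.asIdeal.comap ι
    rw [Ideal.comap_comap, MvPolynomial.eval₂Hom_comp_C]
  have h1 := h n Qn hQn _ ((basicOpen g₀).isOpen.mem_nhds (show Qn ∈ basicOpen g₀ from
    fun h' => hgz (hg₀ ▸ h')))
  rw [← PrimeSpectrum.comap_comp_apply, hcomm, PrimeSpectrum.comap_comp_apply] at h1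
  have h2 := (PrimeSpectrum.continuous_comap φT).continuousAt.preimage_mem_nhds h1
  refine Filter.mem_of_superset h2 ?_
  rintro r ⟨N, hN, hNr⟩
  haveI := N.2
  haveI := r.2
  letI := φT.toAlgebra
  obtain ⟨Ω, _, a, b, ha, hb, hab⟩ := exists_common_field (R := MvPolynomial (Fin n) R) N.asIdeal r.asIdeal
    (congrArg PrimeSpectrum.asIdeal hNr)
  letI : Algebra R Ω := ((a.comp MvPolynomial.C).comp (algebraMap R S)).toAlgebra
  have habR : ∀ r, b (algebraMap R T r) = a (MvPolynomial.C (algebraMap R S r)) := fun r => by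
    have := DFunLike.congr_fun hab (MvPolynomial.C r)
    rw [RingHom.comp_apply, RingHom.comp_apply, algebraMap_C] at this
    rw [this]
    exact congrArg b (AlgHom.commutes (MvPolynomial.aeval t) r).symm
  let b' : T →ₐ[R] Ω := { b with commutes' := habR }
  let a' : S →ₐ[R] Ω := { a.comp MvPolynomial.C with commutes' := fun _ => rfl }
  let ψ : T ⊗[R] S →ₐ[R] Ω := Algebra.TensorProduct.lift b' a' fun _ _ => .all _ _
  haveI : (RingHom.ker ψ).IsPrime := RingHom.ker_isPrime _
  refine ⟨⟨RingHom.ker ψ, this⟩, hgU ?_, ?_⟩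
  · show (∑ i, t i ⊗ₜ[R] s i) ∉ RingHom.ker ψ
    intro h'
    refine hN (ha ▸ (?_ : a g₀ = 0))
    have hX : ∀ i, a (MvPolynomial.X i) = b (t i) := fun i => by
      have := DFunLike.congr_fun hab (MvPolynomial.X i)
      simp only [RingHom.comp_apply] at this
      rw [show algebraMap (MvPolynomial (Fin n) R) (MvPolynomial (Fin n) S) (MvPolynomial.X i) = MvPolynomial.X i
        by simp] at this
      rw [this]
      exact congrArg b (MvPolynomial.aeval_X t i)
    rw [RingHom.mem_ker, map_sum] at h'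
    rw [map_sum]
    refine Eq.trans (Finset.sum_congr rfl fun i _ => ?_) h'
    rw [map_mul, hX]
    simp [ψ, a', b']
  · refine PrimeSpectrum.ext ?_
    rw [← hb]
    ext x
    simp [ψ, b', Algebra.TensorProduct.algebraMap_apply]

variable {p : Ideal R} {B : Type u} [CommRing B] [IsDomain B] [Algebra R B]

theorem poly_qf {R1 : Type u} [CommRing R1] [Algebra R1 S] [Algebra.FiniteType R1 S] (Q : Ideal S) [Q.IsPrime]
    [Algebra.QuasiFiniteAt R1 Q] (n : ℕ) (Qn : Ideal (MvPolynomial (Fin n) S)) [Qn.IsPrime]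
    (hQn : Qn.comap MvPolynomial.C = Q) :
    Algebra.FiniteType (MvPolynomial (Fin n) R1) (MvPolynomial (Fin n) S) ∧
      Algebra.QuasiFiniteAt (MvPolynomial (Fin n) R1) Qn := by
  let eqv := Algebra.IsPushout.equiv R1 (MvPolynomial (Fin n) R1) S (MvPolynomial (Fin n) S)
  refine ⟨Algebra.FiniteType.equiv inferInstance eqv, ?_⟩
  have hback : Q = (Qn.comap eqv.toAlgHom.toRingHom).comap Algebra.TensorProduct.includeRight.toRingHom := by
    rw [Ideal.comap_comap, ← hQn]
    congr 1
    exact RingHom.ext fun s => by simp [eqv, Algebra.IsPushout.equiv_tmul]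
  haveI : Algebra.QuasiFiniteAt (MvPolynomial (Fin n) R1) (Qn.comap eqv.toAlgHom.toRingHom) :=
    Algebra.QuasiFiniteAt.baseChange (R := R1) (S := S) Q _ hback
  exact Algebra.QuasiFiniteAt.of_surjectiveOnStalks (Qn.comap eqv.toAlgHom.toRingHom) eqv.toAlgHom
    (RingHom.surjectiveOnStalks_of_surjective eqv.surjective) Qn rfl

/-- A quasi-finite map to affine space over a geometrically unibranch point is open at the point
after every base change. -/
theorem isOpenAt_poly (hB : UB p B) (hrad : Rad p B) (e : ℕ) [Algebra (MvPolynomial (Fin e) R) S]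
    [IsScalarTower R (MvPolynomial (Fin e) R) S] [Algebra.FiniteType (MvPolynomial (Fin e) R) S]
    (Q m : Ideal S) [Q.IsPrime] [m.IsPrime] [Algebra.QuasiFiniteAt (MvPolynomial (Fin e) R) Q]
    (hmQ : m ≤ Q) (hQ : Q.under R = p)
    (hm : m.under (MvPolynomial (Fin e) R) ≤
      RingHom.ker (algebraMap (MvPolynomial (Fin e) R) (MvPolynomial (Fin e) B)))
    (n : ℕ) (Qn : PrimeSpectrum (MvPolynomial (Fin n) S)) (hQn : Qn.asIdeal.comap MvPolynomial.C = Q) :
    EGA43.IsOpenAt (PrimeSpectrum.comap (algebraMap (MvPolynomial (Fin n) R) (MvPolynomial (Fin n) S))) Qn := by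
  have hq1 : (Q.under (MvPolynomial (Fin e) R)).under R = p := by rw [Ideal.under_under, hQ]
  have hB1 := ub_poly hB hrad (Q.under (MvPolynomial (Fin e) R)) hq1
  have hrad1 := rad_poly hB hrad (Q.under (MvPolynomial (Fin e) R)) hq1
  haveI := Qn.2
  let q2 := Qn.asIdeal.under (MvPolynomial (Fin n) (MvPolynomial (Fin e) R))
  have hq2 : q2.under (MvPolynomial (Fin e) R) = Q.under (MvPolynomial (Fin e) R) := by
    show (Qn.asIdeal.comap _).comap _ = Q.comap _
    rw [← hQn, Ideal.comap_comap, Ideal.comap_comap]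
    congr 1
    exact RingHom.ext fun r => algebraMap_C r
  have hB2 := ub_poly hB1 hrad1 q2 hq2
  obtain ⟨hft, hqf⟩ := poly_qf (R1 := MvPolynomial (Fin e) R) Q n Qn.asIdeal hQn
  haveI := hft
  haveI := hqf
  let m2 : Ideal (MvPolynomial (Fin n) S) := m.map MvPolynomial.C
  haveI : m2.IsPrime := by
    show (m.map MvPolynomial.C).IsPrime
    rw [show m.map (MvPolynomial.C : S →+* (MvPolynomial (Fin n) S)) = RingHom.ker (MvPolynomial.map (Ideal.Quotient.mk m)) by
      rw [MvPolynomial.ker_map, Ideal.mk_ker]]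
    exact RingHom.ker_isPrime _
  have hm2 : m2 ≤ Qn.asIdeal := Ideal.map_le_iff_le_comap.2 (hmQ.trans hQn.ge)
  have hm2' : m2.under (MvPolynomial (Fin n) (MvPolynomial (Fin e) R)) ≤ RingHom.ker (algebraMap (MvPolynomial (Fin n) (MvPolynomial (Fin e) R)) (MvPolynomial (Fin n) (MvPolynomial (Fin e) B))) := by
    intro a ha
    rw [ker_poly, MvPolynomial.mem_map_C_iff]
    intro k
    refine hm ?_
    have hc := (MvPolynomial.mem_map_C_iff.1 (show algebraMap (MvPolynomial (Fin n) (MvPolynomial (Fin e) R)) (MvPolynomial (Fin n) S) a ∈ m.map MvPolynomial.C from ha)) k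
    rw [MvPolynomial.algebraMap_def, MvPolynomial.coeff_map] at hc
    exact hc
  have hopen := isOpenAt_of_quasiFiniteAt hB2 Qn.asIdeal m2 hm2 rfl hm2'
  let j : MvPolynomial (Fin n) R →+* (MvPolynomial (Fin n) (MvPolynomial (Fin e) R)) := MvPolynomial.map MvPolynomial.C
  have hj : (algebraMap (MvPolynomial (Fin n) (MvPolynomial (Fin e) R)) (MvPolynomial (Fin n) S)).comp j = algebraMap (MvPolynomial (Fin n) R) (MvPolynomial (Fin n) S) := by
    refine MvPolynomial.ringHom_ext (fun r => ?_) fun i => ?_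
    · rw [RingHom.comp_apply, show j (MvPolynomial.C r) = MvPolynomial.C (MvPolynomial.C r) from MvPolynomial.map_C _ _, algebraMap_C, algebraMap_C]
      exact congrArg _ (IsScalarTower.algebraMap_apply R (MvPolynomial (Fin e) R) S r).symm
    · simp [j]
  have hjo : IsOpenMap (PrimeSpectrum.comap j) := by
    let w := (MvPolynomial.commAlgEquiv R (Fin e) (Fin n)).toRingEquiv
    have hw : j = w.toRingHom.comp (MvPolynomial.C : MvPolynomial (Fin n) R →+* MvPolynomial (Fin e) (MvPolynomial (Fin n) R)) :=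
      RingHom.ext fun f => (MvPolynomial.commAlgEquiv_C f).symm
    rw [hw, PrimeSpectrum.comap_comp]
    exact IsOpenMap.comp MvPolynomial.isOpenMap_comap_C (PrimeSpectrum.homeomorphOfRingEquiv w).symm.isOpenMap
  intro U hU
  rw [← hj, PrimeSpectrum.comap_comp, Set.image_comp]
  exact hjo.image_mem_nhds (hopen U hU)

end Groth.Agent.Unibr4

namespace Groth.Agent.Unibr4

open CategoryTheory AlgebraicGeometry Limits

variable {X Y : Scheme.{u}}

/-- Universal openness at a point can be checked on an affine chart. -/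
theorem isUnivOpenAt_of_affine (f : X ⟶ Y) (x : X) {V : Y.Opens} (hV : IsAffineOpen V) {U : X.Opens}
    (hU : IsAffineOpen U) (hUV : U ≤ f ⁻¹ᵁ V) (hxU : x ∈ U)
    (h : letI := (f.appLE V U hUV).hom.toAlgebra
      ∀ (n : ℕ) (Qn : PrimeSpectrum (MvPolynomial (Fin n) Γ(X, U))),
        Qn.asIdeal.comap MvPolynomial.C = (hU.primeIdealOf ⟨x, hxU⟩).asIdeal →
        EGA43.IsOpenAt (PrimeSpectrum.comap
          (algebraMap (MvPolynomial (Fin n) Γ(Y, V)) (MvPolynomial (Fin n) Γ(X, U)))) Qn) :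
    EGA43.IsUnivOpenAt f x := by
  intro Y' g x' hx'
  have hfst : pullback.fst f g x' = x := hx'
  have hsndV : pullback.snd f g x' ∈ g ⁻¹ᵁ V := by
    show g (pullback.snd f g x') ∈ V
    rw [← Scheme.Hom.comp_apply, ← pullback.condition, Scheme.Hom.comp_apply, hfst]
    exact hUV hxU
  obtain ⟨W, hW, hxW, hWV⟩ := exists_isAffineOpen_mem_and_subset (U := g ⁻¹ᵁ V) (x := pullback.snd f g x') hsndV
  have hWV : W ≤ g ⁻¹ᵁ V := hWV
  letI := (f.appLE V U hUV).hom.toAlgebra
  letI := (g.appLE V W hWV).hom.toAlgebra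
  let R := Γ(Y, V)
  let S := Γ(X, U)
  let T := Γ(Y', W)
  let σS := Spec.map (CommRingCat.ofHom (algebraMap R S))
  let σT := Spec.map (CommRingCat.ofHom (algebraMap R T))
  have eS : σS ≫ hV.fromSpec = hU.fromSpec ≫ f := IsAffineOpen.SpecMap_appLE_fromSpec f hV hU hUV
  have eT : σT ≫ hV.fromSpec = hW.fromSpec ≫ g := IsAffineOpen.SpecMap_appLE_fromSpec g hV hW hWV
  let μ : pullback σT σS ⟶ pullback g f :=
    pullback.map σT σS g f hW.fromSpec hU.fromSpec hV.fromSpec eT eS
  let j : Spec (CommRingCat.of (T ⊗[R] S)) ⟶ pullback f g :=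
    (pullbackSpecIso R T S).inv ≫ μ ≫ (pullbackSymmetry f g).inv
  have hj1 : j ≫ pullback.fst f g =
      Spec.map (CommRingCat.ofHom Algebra.TensorProduct.includeRight.toRingHom) ≫ hU.fromSpec := by
    simp only [j, μ, Category.assoc, pullbackSymmetry_inv_comp_fst, pullback.lift_snd]
    rw [← Category.assoc, pullbackSpecIso_inv_snd]
    rfl
  have hj2 : j ≫ pullback.snd f g = Spec.map (CommRingCat.ofHom (algebraMap T (T ⊗[R] S))) ≫ hW.fromSpec := by
    simp only [j, μ, Category.assoc, pullbackSymmetry_inv_comp_snd, pullback.lift_fst]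
    rw [← Category.assoc, pullbackSpecIso_inv_fst']
  haveI : IsOpenImmersion μ := Scheme.pullback_map_isOpenImmersion _ _ _ _ _ _ _ _ _
  haveI : IsOpenImmersion j := inferInstance
  obtain ⟨z, hz⟩ : x' ∈ Set.range j := by
    let y' := (pullbackSymmetry f g).hom x'
    have hy' : y' ∈ Set.range μ := by
      rw [Scheme.Pullback.range_map, hW.range_fromSpec, hU.range_fromSpec]
      refine ⟨?_, ?_⟩
      · show pullback.fst g f y' ∈ W
        rw [← Scheme.Hom.comp_apply, pullbackSymmetry_hom_comp_fst]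
        exact hxW
      · show pullback.snd g f y' ∈ U
        rw [← Scheme.Hom.comp_apply, pullbackSymmetry_hom_comp_snd]
        exact hfst ▸ hxU
    obtain ⟨a, ha⟩ := hy'
    refine ⟨(pullbackSpecIso R T S).hom a, ?_⟩
    show ((pullbackSpecIso R T S).inv ≫ μ ≫ (pullbackSymmetry f g).inv) ((pullbackSpecIso R T S).hom a) = x'
    rw [← Scheme.Hom.comp_apply, Iso.hom_inv_id_assoc, Scheme.Hom.comp_apply, ha, ← Scheme.Hom.comp_apply,
      Iso.hom_inv_id]
    rfl
  have hzQ : z.asIdeal.comap Algebra.TensorProduct.includeRight.toRingHom = (hU.primeIdealOf ⟨x, hxU⟩).asIdeal := by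
    refine congrArg PrimeSpectrum.asIdeal (hU.fromSpec.isOpenEmbedding.injective ?_ :
      Spec.map (CommRingCat.ofHom Algebra.TensorProduct.includeRight.toRingHom) z = hU.primeIdealOf ⟨x, hxU⟩)
    rw [hU.fromSpec_primeIdealOf, ← Scheme.Hom.comp_apply, ← hj1, Scheme.Hom.comp_apply, hz, hfst]
  intro O hO
  have h1 := isOpenAt_baseChange (R := R) (S := S) _ h T z hzQ (j ⁻¹' O)
    (j.continuous.continuousAt.preimage_mem_nhds (hz.symm ▸ hO))
  have h2 := hW.fromSpec.isOpenEmbedding.isOpenMap.image_mem_nhds h1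
  have h3 : hW.fromSpec (PrimeSpectrum.comap (algebraMap T (T ⊗[R] S)) z) = pullback.snd f g x' := by
    rw [← hz]
    rw [← Scheme.Hom.comp_apply, hj2, Scheme.Hom.comp_apply]
    rfl
  rw [h3] at h2
  refine Filter.mem_of_superset h2 ?_
  rintro _ ⟨_, ⟨a, ha, rfl⟩, rfl⟩
  refine ⟨j a, ha, ?_⟩
  rw [← Scheme.Hom.comp_apply, hj2, Scheme.Hom.comp_apply]
  rfl

end Groth.Agent.Unibr4
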